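import Cfsg.Agent.Lib.RankOne.UnitaryUnique.ModelPoints
import Cfsg.Agent.Lib.RankOne.Split.Defs

/-!
# A group acting by the standard map has `PSU(3,q)` as a normal subgroup of odd index
-/

set_option autoImplicit false
set_option linter.unusedSectionVars false
set_option linter.style.haveILetI false

namespace CfsgLib.RankOne.UnitaryUnique

open MulAction CfsgLib.Classical CfsgLib.RankOne.UnitarySylow

namespace Model

variable {F : Type*} [Field F] [Fintype F] [CharP F 2] {σ : F →+* F} [hσ : Fact (IsConjugation σ)]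
  {q : ℕ} [hq : Fact (Fintype.card F = q ^ 2 ∧ ∀ x, σ x = x ^ q)]

variable (σ q) in
/-- The translations as permutations. -/
noncomputable def translations : Subgroup (Equiv.Perm (Option (Heis σ))) :=
  ((act σ q).comp (trans σ q)).range

variable (σ q) in
/-- The group generated by the translations and their conjugates under the exchange. -/
noncomputable def generated : Subgroup (Equiv.Perm (Option (Heis σ))) :=
  translations σ q ⊔ (translations σ q).map (MulAut.conj (act σ q (swap σ q))).toMonoidHom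

theorem swap_inv : (act σ q (swap σ q))⁻¹ = act σ q (swap σ q) := by
  refine inv_eq_of_mul_eq_one_right (Equiv.ext fun p => ?_)
  rw [Equiv.Perm.mul_apply, ← Equiv.Perm.mul_apply, ← map_mul]
  refine act_eq (l := 1) ?_
  rw [mat_mul, ← Matrix.mulVec_mulVec, one_smul]
  rcases p with _ | g
  · rw [vec_none, swap_cmb, swap_cmb]; rfl
  · rw [vec_some, swap_cmb, swap_cmb]; rfl

theorem trans_mem (g : Heis σ) : act σ q (trans σ q g) ∈ generated σ q :=
  Subgroup.mem_sup_left ⟨g, rfl⟩

theorem conj_trans_mem (g : Heis σ) :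
    act σ q (swap σ q) * act σ q (trans σ q g) * (act σ q (swap σ q))⁻¹ ∈ generated σ q :=
  Subgroup.mem_sup_right ⟨_, ⟨g, rfl⟩, rfl⟩

theorem transitive (p : Option (Heis σ)) : ∃ m ∈ generated σ q, m p = none := by
  rcases p with _ | g
  · exact ⟨1, one_mem _, rfl⟩
  obtain ⟨h, hh, -⟩ := exists_ne_one (σ := σ)
  set A := act σ q (swap σ q) * act σ q (trans σ q h) * (act σ q (swap σ q))⁻¹ with hA
  have hAn : A none = some (flip h) := by
    rw [hA, swap_inv, Equiv.Perm.mul_apply, Equiv.Perm.mul_apply, act_swap_none, act_trans_some, mul_one,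
      act_swap_some hh]
  refine ⟨A⁻¹ * act σ q (trans σ q (flip h * g⁻¹)),
    mul_mem (inv_mem (conj_trans_mem h)) (trans_mem _), ?_⟩
  rw [Equiv.Perm.mul_apply, act_trans_some, inv_mul_cancel_right, ← hAn, Equiv.Perm.inv_def,
    Equiv.symm_apply_apply]

theorem conj_le_of_fix {M : Cfsg.SU 3 F q} (he : act σ q M none = none)
    (hf : act σ q M (some 1) = some (1 : Heis σ)) {x : Equiv.Perm (Option (Heis σ))}
    (hx : x ∈ translations σ q) : act σ q M * x * (act σ q M)⁻¹ ∈ translations σ q := by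
  obtain ⟨g, rfl⟩ := hx
  obtain ⟨g', h⟩ := conj_trans_of_fix he hf g
  refine ⟨g', ?_⟩
  rw [map_mul, map_mul] at h
  rw [MonoidHom.comp_apply, MonoidHom.comp_apply, h, mul_inv_cancel_right]

theorem conj_generated (M : Cfsg.SU 3 F q) {x : Equiv.Perm (Option (Heis σ))} (hx : x ∈ generated σ q) :
    act σ q M * x * (act σ q M)⁻¹ ∈ generated σ q := by
  obtain ⟨m1, hm1, h1⟩ := transitive (σ := σ) (q := q) (act σ q M none)
  set r1 := m1 * act σ q M with hr1
  obtain ⟨g, hg⟩ : ∃ g, r1 (some 1) = some g := by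
    rcases hp : r1 (some 1) with _ | g
    · have h : r1 none = r1 (some 1) := by rw [hp, hr1, Equiv.Perm.mul_apply, h1]
      exact absurd (r1.injective h) (Option.some_ne_none _).symm
    · exact ⟨g, rfl⟩
  set m := act σ q (trans σ q g⁻¹) * m1 with hm
  have hmG : m ∈ generated σ q := mul_mem (trans_mem _) hm1
  obtain ⟨N, hN, hN0, hN1⟩ : ∃ N : Cfsg.SU 3 F q, act σ q N = m * act σ q M ∧
      act σ q N none = none ∧ act σ q N (some 1) = some (1 : Heis σ) := by
    obtain ⟨m', hm'⟩ : m ∈ (act σ q).range := by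
      have hle : generated σ q ≤ (act σ q).range := sup_le (by rintro _ ⟨g, rfl⟩; exact ⟨_, rfl⟩) (by
        rintro _ ⟨_, ⟨g, rfl⟩, rfl⟩
        exact ⟨swap σ q * trans σ q g * (swap σ q)⁻¹, by simp⟩)
      exact hle hmG
    refine ⟨m' * M, by rw [map_mul, hm'], ?_, ?_⟩ <;>
      rw [map_mul, hm', hm, mul_assoc, ← hr1, Equiv.Perm.mul_apply]
    · rw [hr1, Equiv.Perm.mul_apply, h1, act_trans_none]
    · rw [hg, act_trans_some, inv_mul_cancel]
  have hNx : act σ q N * x * (act σ q N)⁻¹ ∈ generated σ q := by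
    have hle : (generated σ q).map (MulAut.conj (act σ q N)).toMonoidHom ≤ generated σ q := by
      rw [generated, Subgroup.map_sup]
      refine sup_le (fun y hy => ?_) fun y hy => ?_
      · obtain ⟨z, hz, rfl⟩ := hy
        exact Subgroup.mem_sup_left (conj_le_of_fix hN0 hN1 hz)
      · obtain ⟨_, ⟨z, hz, rfl⟩, rfl⟩ := hy
        refine Subgroup.mem_sup_right ⟨_, conj_le_of_fix (M := swap σ q * N * swap σ q) ?_ ?_ hz, ?_⟩
        · rw [map_mul, map_mul, Equiv.Perm.mul_apply, Equiv.Perm.mul_apply, act_swap_none, hN1, act_swap_one]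
        · rw [map_mul, map_mul, Equiv.Perm.mul_apply, Equiv.Perm.mul_apply, act_swap_one, hN0, act_swap_none]
        · have hw : ∀ r, act σ q (swap σ q) * (act σ q (swap σ q) * r) = r := fun r => by
            rw [← mul_assoc]; nth_rw 1 [← swap_inv]; rw [inv_mul_cancel, one_mul]
          simp only [MulEquiv.coe_toMonoidHom, MulAut.conj_apply]
          rw [map_mul (act σ q), map_mul (act σ q)]
          have hww : act σ q (swap σ q) * act σ q (swap σ q) = 1 := by simpa using hw 1
          simp only [mul_inv_rev, swap_inv, mul_assoc, hw, hww, mul_one]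
    exact hle ⟨x, hx, rfl⟩
  have := mul_mem (mul_mem (inv_mem hmG) hNx) hmG
  rw [hN] at this
  simpa [mul_assoc] using this

/-- The translations and their conjugates generate the image of `SU(3,q)`. -/
theorem range_eq_generated (h4 : 4 ≤ q) : (act σ q).range = generated σ q := by
  refine le_antisymm ?_ (sup_le (by rintro _ ⟨g, rfl⟩; exact ⟨_, rfl⟩) (by
    rintro _ ⟨_, ⟨g, rfl⟩, rfl⟩
    exact ⟨swap σ q * trans σ q g * (swap σ q)⁻¹, by simp⟩))
  set K := (generated σ q).comap (act σ q) with hK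
  haveI : K.Normal := ⟨fun n hn g => by
    rw [hK, Subgroup.mem_comap, map_mul, map_mul, map_inv]
    exact conj_generated g hn⟩
  haveI := Cfsg.Agent.S0283.result hq.out.1 3 le_rfl (fun h => by omega)
  set π := QuotientGroup.mk' (Subgroup.center (Cfsg.SU 3 F q)) with hπ
  haveI := (inferInstance : K.Normal).map π (QuotientGroup.mk'_surjective _)
  rcases IsSimpleGroup.eq_bot_or_eq_top_of_normal (K.map π) inferInstance with h | h
  · exfalso
    obtain ⟨g, hg, -⟩ := exists_ne_one (σ := σ)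
    have hgK : trans σ q g ∈ K := trans_mem g
    have h1 : π (trans σ q g) = 1 := Subgroup.mem_bot.1 (h ▸ Subgroup.mem_map_of_mem π hgK)
    have h2 := DFunLike.congr_fun (mem_ker_of_center (σ := σ) ((QuotientGroup.eq_one_iff _).1 h1)) (some 1)
    rw [act_trans_some, mul_one, Equiv.Perm.one_apply] at h2
    exact hg (Option.some_injective _ h2)
  · rintro _ ⟨M, rfl⟩
    obtain ⟨k, hk, hkM⟩ : π M ∈ K.map π := h ▸ Subgroup.mem_top _
    have hz : k⁻¹ * M ∈ Subgroup.center (Cfsg.SU 3 F q) := QuotientGroup.eq.1 hkM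
    have e := mem_ker_of_center (σ := σ) hz
    rw [map_mul, map_inv, inv_mul_eq_one] at e
    rw [← e]
    exact hk

/-- `PSU(3,q)` as the group generated by the translations and their conjugates. -/
noncomputable def psuEquiv (h4 : 4 ≤ q) : Cfsg.PSU 3 F q ≃* generated σ q :=
  ((QuotientGroup.quotientMulEquivOfEq ker_act.symm).trans
    (QuotientGroup.quotientKerEquivRange (act σ q))).trans
    (MulEquiv.subgroupCongr (range_eq_generated h4))

end Model

open Model

universe u v

/-- The normal closure of `Q`. -/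
theorem exists_normal_closure {G : Type u} {Ω : Type v} [Group G] [Finite G] [MulAction G Ω] {a : Ω} {t : G}
    {Q : Subgroup G} (hS : Cfsg.IsRankOneSetup G Ω a t Q) :
    (Q ⊔ Q.map (MulAut.conj t).toMonoidHom).Normal ∧
      Odd (Q ⊔ Q.map (MulAut.conj t).toMonoidHom).index := by
  set L := Q ⊔ Q.map (MulAut.conj t).toMonoidHom with hL
  have hN : ∀ g, (∀ x ∈ Q, g * x * g⁻¹ ∈ L) → (∀ x ∈ Q, g * (t * x * t⁻¹) * g⁻¹ ∈ L) →
      ∀ y ∈ L, g * y * g⁻¹ ∈ L := by
    intro g h1 h2 y hy
    have hle : L.map (MulAut.conj g).toMonoidHom ≤ L := by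
      rw [hL, Subgroup.map_sup]
      refine sup_le ?_ ?_
      · rintro _ ⟨x, hx, rfl⟩; exact h1 x hx
      · rintro _ ⟨_, ⟨x, hx, rfl⟩, rfl⟩; exact h2 x hx
    exact hle ⟨y, hy, rfl⟩
  have hQ : ∀ g ∈ Q, ∀ y ∈ L, g * y * g⁻¹ ∈ L := fun g hg y hy =>
    mul_mem (mul_mem (Subgroup.mem_sup_left hg) hy) (inv_mem (Subgroup.mem_sup_left hg))
  have ht : ∀ y ∈ L, t * y * t⁻¹ ∈ L := hN t (fun x hx => Subgroup.mem_sup_right ⟨x, hx, rfl⟩)
    fun x hx => by
      rw [show t * (t * x * t⁻¹) * t⁻¹ = t * t * x * (t * t)⁻¹ by group, hS.mul_self, one_mul,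
        inv_one, mul_one]
      exact Subgroup.mem_sup_left hx
  have hD : ∀ d ∈ two G a t, ∀ y ∈ L, d * y * d⁻¹ ∈ L := fun d hd => by
    refine hN d (fun x hx => Subgroup.mem_sup_left (hS.conj_mem d hd.1 x hx)) fun x hx => ?_
    have hd' := conj_t_mem' hS hd
    refine Subgroup.mem_sup_right ⟨t * d * t * x * (t * d * t)⁻¹, hS.conj_mem _ hd'.1 x hx, ?_⟩
    rw [MulEquiv.coe_toMonoidHom, MulAut.conj_apply, t_inv hS, mul_inv_rev, mul_inv_rev, t_inv hS]
    simp only [← mul_assoc, hS.mul_self, one_mul]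
    simp only [mul_assoc, hS.mul_self, mul_one]
  have hA : ∀ g ∈ stabilizer G a, ∀ y ∈ L, g * y * g⁻¹ ∈ L := fun g hg y hy => by
    obtain ⟨x, hx, d, hd, rfl⟩ := exists_qd hS hg
    rw [show x * d * y * (x * d)⁻¹ = x * (d * y * d⁻¹) * x⁻¹ by group]
    exact hQ x hx _ (hD d hd y hy)
  refine ⟨⟨fun y hy g => ?_⟩, ?_⟩
  · by_cases hg : g ∈ stabilizer G a
    · exact hA g hg y hy
    · obtain ⟨⟨x, z⟩, ⟨hx, hz, rfl⟩, -⟩ := exists_canonical hS hg
      rw [show x * t * z * y * (x * t * z)⁻¹ = x * (t * (z * y * z⁻¹) * t⁻¹) * x⁻¹ by group]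
      exact hA x hx _ (ht _ (hQ z hz y hy))
  · obtain ⟨P, hP⟩ := exists_sylow hS
    haveI : Fact (Nat.Prime 2) := ⟨Nat.prime_two⟩
    have hdvd : L.index ∣ (P : Subgroup G).index := Subgroup.index_dvd_of_le (hP.trans le_sup_left)
    exact (Nat.odd_iff.2 (Nat.two_dvd_ne_zero.1 P.not_dvd_index)).of_dvd_nat hdvd

/-- A group acting by the standard map has `PSU(3,q)` as a normal subgroup of odd index. -/
theorem conclusion_of_standard {G : Type u} {Ω : Type v} [Group G] [Finite G] [MulAction G Ω] [FaithfulSMul G Ω]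
    {a : Ω} {t : G} {Q : Subgroup G} (hS : Cfsg.IsRankOneSetup G Ω a t Q) {F : Type} [Field F] [Fintype F]
    [CharP F 2] {σ : F →+* F} {q : ℕ} [Fact (IsConjugation σ)]
    [Fact (Fintype.card F = q ^ 2 ∧ ∀ x, σ x = x ^ q)] (U : UCoord a t Q F σ q) (hst : IsStandard a t U.θ) :
    CfsgLib.RankOne.Conclusion G := by
  have hF := (Fact.out : Fintype.card F = q ^ 2 ∧ ∀ x, σ x = x ^ q).1
  have hθa : ∀ g : Heis σ, (U.θ g : G) • a = a := fun g => hS.le (U.θ g).2
  have hne : ∀ g : Heis σ, (U.θ g : G) • t • a ≠ a := fun g h =>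
    ta_ne hS (smul_left_cancel _ (h.trans (hθa g).symm))
  -- the points
  let E : Option (Heis σ) → Ω := fun p => p.elim a fun g => (U.θ g : G) • t • a
  have hE : Function.Bijective E := by
    refine ⟨?_, fun c => ?_⟩
    · rintro (_ | g) (_ | g') h
      · rfl
      · exact absurd h.symm (hne g')
      · exact absurd h (hne g)
      · obtain ⟨r, -, hr⟩ := exists_q hS (hne g')
        exact congrArg some (U.θ.injective (Subtype.ext
          ((hr _ ⟨(U.θ g).2, h⟩).trans (hr _ ⟨(U.θ g').2, rfl⟩).symm)))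
    · by_cases hc : c = a
      · exact ⟨none, hc.symm⟩
      · obtain ⟨r, ⟨hr, hrc⟩, -⟩ := exists_q hS hc
        obtain ⟨g, hg⟩ := U.θ.surjective ⟨r, hr⟩
        exact ⟨some g, by rw [← hrc]; exact congrArg (fun z : Q => (z : G) • t • a) hg⟩
  let e : Option (Heis σ) ≃ Ω := Equiv.ofBijective E hE
  let ψ : G →* Equiv.Perm (Option (Heis σ)) :=
    e.symm.permCongrHom.toMonoidHom.comp (MulAction.toPermHom G Ω)
  have hψ : ∀ g p, ψ g p = e.symm (g • e p) := fun g p => rfl
  have hinj : Function.Injective ψ := fun g h hgh => FaithfulSMul.eq_of_smul_eq_smul (α := Ω) fun b => by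
    obtain ⟨p, rfl⟩ := e.surjective b
    exact e.symm.injective (by rw [← hψ, ← hψ, hgh])
  have hθ : ∀ g, ψ (U.θ g) = act σ q (trans σ q g) := fun g => Equiv.ext fun p => by
    rw [hψ, Equiv.symm_apply_eq]
    rcases p with _ | x
    · rw [act_trans_none]; exact hθa g
    · rw [act_trans_some]
      change (U.θ g : G) • (U.θ x : G) • t • a = (U.θ (g * x) : G) • t • a
      rw [map_mul, Subgroup.coe_mul, mul_smul]
  have ht : ψ t = act σ q (swap σ q) := Equiv.ext fun p => by
    rw [hψ, Equiv.symm_apply_eq]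
    rcases p with _ | x
    · rw [act_swap_none]
      change t • a = (U.θ 1 : G) • t • a
      rw [map_one, OneMemClass.coe_one, one_smul]
    · by_cases hx : x = 1
      · subst hx
        rw [act_swap_one]
        change t • (U.θ 1 : G) • t • a = a
        rw [map_one, OneMemClass.coe_one, one_smul, tt_smul hS]
      · rw [act_swap_some hx]
        exact hst x hx
  clear_value ψ
  obtain ⟨hLn, hLodd⟩ := exists_normal_closure hS
  have hQmap : Q.map ψ = translations σ q := by
    ext x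
    constructor
    · rintro ⟨y, hy, rfl⟩
      obtain ⟨g, hg⟩ := U.θ.surjective ⟨y, hy⟩
      refine ⟨g, ?_⟩
      rw [MonoidHom.comp_apply, ← hθ, hg]
    · rintro ⟨g, rfl⟩
      exact ⟨U.θ g, (U.θ g).2, hθ g⟩
  have hcomm : ψ.comp (MulAut.conj t).toMonoidHom =
      (MulAut.conj (act σ q (swap σ q))).toMonoidHom.comp ψ := MonoidHom.ext fun y => by
    simp [← ht]
  have hLmap : (Q ⊔ Q.map (MulAut.conj t).toMonoidHom).map ψ = generated σ q := by
    rw [Subgroup.map_sup, Subgroup.map_map, hcomm, ← Subgroup.map_map, hQmap]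
    rfl
  obtain ⟨n, hn, rfl⟩ : ∃ n, 2 ≤ n ∧ q = 2 ^ n := by
    haveI : Fact (Nat.Prime 2) := ⟨Nat.prime_two⟩
    obtain ⟨k, -, hk⟩ := FiniteField.card F 2
    obtain ⟨n, -, hn⟩ := (Nat.dvd_prime_pow Nat.prime_two).1 (show q ∣ 2 ^ (k : ℕ) by
      rw [← hk, hF]; exact dvd_pow_self q two_ne_zero)
    refine ⟨n, ?_, hn⟩
    by_contra hlt
    have h4 := U.four_le
    have : 2 ^ n ≤ 2 ^ 1 := Nat.pow_le_pow_right two_pos (by omega)
    omega
  exact ⟨_, hLn, hLodd, Or.inr (Or.inr ⟨F, inferInstance, inferInstance, n, hn, hF,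
    ⟨((Subgroup.equivMapOfInjective _ ψ hinj).trans (MulEquiv.subgroupCongr hLmap)).trans
      (psuEquiv U.four_le).symm⟩⟩)⟩

end CfsgLib.RankOne.UnitaryUnique
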