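import Cfsg.Agent.Lib.RankOne.UnitaryUnique.Coords

/-!
# The standard map of the unitary group on the Heisenberg group

`(c, b) ↦ (c / b, 1 / b)`, the action of the reflection exchanging the two isotropic base points.
-/

set_option autoImplicit false
set_option linter.unusedSectionVars false

namespace CfsgLib.RankOne.UnitaryUnique

open CfsgLib.Classical CfsgLib.RankOne.UnitarySylow

universe u v

variable {F : Type*} [Field F] [CharP F 2] {σ : F →+* F} [hσ : Fact (IsConjugation σ)]

/-- Only the neutral element has second coordinate zero. -/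
theorem eq_one_of_b {g : Heis σ} (h : g.b = 0) : g = 1 := by
  have h1 := g.hb
  rw [h, map_zero, add_zero, eq_comm, mul_eq_zero] at h1
  exact Heis.ext (h1.elim id (map_eq_zero σ).1) h

/-- The standard map. -/
def flip (g : Heis σ) : Heis σ :=
  ⟨g.c / g.b, g.b⁻¹, by
    rcases eq_or_ne g.b 0 with h | h
    · simp [h]
    · have h' : σ g.b ≠ 0 := (map_ne_zero σ).2 h
      rw [map_div₀, map_inv₀]
      field_simp
      linear_combination g.hb⟩

theorem flip_c (g : Heis σ) : (flip g).c = g.c / g.b := rfl

theorem flip_b (g : Heis σ) : (flip g).b = g.b⁻¹ := rfl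

/-- The group acts by the standard map. -/
def IsStandard {G : Type u} {Ω : Type v} [Group G] [MulAction G Ω] (a : Ω) (t : G) {Q : Subgroup G}
    (θ : Heis σ ≃* Q) : Prop :=
  ∀ g : Heis σ, g ≠ 1 → t • (θ g : G) • t • a = (θ (flip g) : G) • t • a

end CfsgLib.RankOne.UnitaryUnique
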