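import Cfsg.Agent.Lib.RankOne.UnitaryUnique.Lambda

/-!
# The coordinate function is an inverse

After undoing the field automorphism given by the multiplier, the recurrence along a generator of the norm-one
group leaves two monomials, and the rotation leaves one.
-/

set_option autoImplicit false
set_option linter.style.haveILetI false
set_option linter.unusedSectionVars false

namespace CfsgLib.RankOne.UnitaryUnique

open CfsgLib.Classical CfsgLib.RankOne.UnitarySylow

variable {F : Type*} [Field F] [CharP F 2] {σ : F →+* F} [Fintype F] [DecidableEq F] {q : ℕ}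
  [hσ : Fact (IsConjugation σ)] [hq : Fact (Fintype.card F = q ^ 2 ∧ ∀ x, σ x = x ^ q)]

namespace Plane

variable {C : Fix σ × Fix σ → F} {φ : Fix σ →*₀ Fix σ} {ε : F} (P : Plane C φ ε)
include P

include hq in
/-- The multiplier is the restriction of a field automorphism. -/
theorem exists_extend : ∃ φe : F ≃+* F, (∀ a : Fix σ, φe a = (φ a : F)) ∧ ∀ x, σ (φe x) = φe (σ x) := by
  obtain ⟨Λ, R, L⟩ := P.exists_Lam (q := q)
  let φr : Fix σ →+* Fix σ :=
    { toFun := φ
      map_one' := map_one φ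
      map_mul' := map_mul φ
      map_zero' := map_zero φ
      map_add' := P.φ_add L (q := q) }
  have hbij : Function.Bijective φr := ⟨P.φ_inj, Finite.injective_iff_surjective.1 P.φ_inj⟩
  obtain ⟨n, hn, hcard⟩ : ∃ n, n ≠ 0 ∧ q = 2 ^ n := by
    obtain ⟨m, -, hm⟩ := FiniteField.card F 2
    have hd : q ∣ 2 ^ (m : ℕ) := by rw [← hm, hq.out.1]; exact dvd_pow_self q two_ne_zero
    obtain ⟨n, -, hn⟩ := (Nat.dvd_prime_pow Nat.prime_two).1 hd
    refine ⟨n, fun e => ?_, hn⟩
    have := q_pos (σ := σ) (q := q)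
    rw [hn, e, pow_zero] at this
    omega
  obtain ⟨i, -, hi⟩ := CfsgLib.LocalEven.StrongCore.exists_frobenius_pow
    ((card_Fix (σ := σ) (q := q)).trans hcard) (RingEquiv.ofBijective φr hbij)
  refine ⟨iterateFrobeniusEquiv F 2 i, fun a => ?_, fun x => ?_⟩
  · rw [iterateFrobeniusEquiv_def]
    exact (congrArg Subtype.val (hi a)).symm
  · rw [iterateFrobeniusEquiv_def, iterateFrobeniusEquiv_def, map_pow]

include hq in
/-- Undo the automorphism. -/
theorem untwist {φe : F ≃+* F} (hφ : ∀ a : Fix σ, φe a = (φ a : F)) (hcomm : ∀ x, σ (φe x) = φe (σ x)) :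
    Plane (fun v => φe.symm (C v)) (MonoidWithZeroHom.id (Fix σ)) (φe.symm ε) where
  zero := by rw [P.zero, map_zero]
  inj := φe.symm.injective.comp P.inj
  surj := φe.symm.surjective.comp P.surj
  φ_inj := fun _ _ h => h
  homog a ha v := by
    rw [P.homog a ha, ← hφ, map_mul, map_inv₀, RingEquiv.symm_apply_apply]
    rfl
  key p v h := by
    obtain ⟨Y, τ, hY, hk⟩ := P.key p v h
    exact ⟨Y, τ, hY, fun ζ hζ => by rw [← map_add, hk ζ hζ]⟩
  rot := by
    obtain ⟨T, hT, hC⟩ := P.rot
    exact ⟨T, hT, fun v => by rw [hC, map_mul]⟩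
  ε_norm := φe.injective (by
    rw [map_mul, ← hcomm, RingEquiv.apply_symm_apply, map_one, P.ε_norm])
  ε_ne := fun h => P.ε_ne (by rw [← φe.apply_symm_apply ε, h, map_one])

end Plane

variable {C : Fix σ × Fix σ → F} {ε : F} (P : Plane C (MonoidWithZeroHom.id (Fix σ)) ε)
include P

include hq in
/-- The solution with trivial multiplier. -/
theorem exists_inverse : ∃ (Λ : Fix σ × Fix σ ≃+ F) (θ : F), θ ≠ 0 ∧ (∀ (a : Fix σ) v, Λ (a • v) = a * Λ v) ∧
    (∀ v w, (det v w : F) = Λ v * σ (Λ w) + σ (Λ v) * Λ w) ∧ ∀ v, v ≠ 0 → C v = θ / Λ v := by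
  obtain ⟨Λ, R, L⟩ := P.exists_Lam (q := q)
  have h2 := CharTwo.two_eq_zero (R := F)
  have hR : (R : F) ≠ 0 := fun e => L.R_ne (Subtype.ext e)
  -- a generator of the norm-one group
  have hmem : ∀ u : Fˣ, u ∈ (normHom σ).ker ↔ (u : F) * σ u = 1 := fun u => by
    rw [MonoidHom.mem_ker, Units.ext_iff, CfsgLib.Classical.normHom_apply, Units.val_one]
  obtain ⟨⟨g₀, hg₀⟩, hgen⟩ := IsCyclic.exists_generator (α := ↥(normHom σ).ker)
  set g : F := (g₀ : F)
  have hg : g * σ g = 1 := (hmem g₀).1 hg₀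
  have hpowers : ∀ γ : F, γ * σ γ = 1 → ∃ n : ℕ, γ = g ^ n := by
    intro γ hγ
    have hγ0 : γ ≠ 0 := Plane.ne_of_norm L hγ
    have h := hgen ⟨Units.mk0 γ hγ0, (hmem _).2 hγ⟩
    rw [← mem_powers_iff_mem_zpowers] at h
    obtain ⟨n, hn⟩ := h
    exact ⟨n, (congrArg (fun u : ↥(normHom σ).ker => ((u : Fˣ) : F)) hn).symm.trans (by push_cast; rfl)⟩
  have hg1 : g ≠ 1 := fun e => by
    obtain ⟨n, hn⟩ := hpowers ε P.ε_norm
    rw [e, one_pow] at hn
    exact P.ε_ne hn
  have hgs : g + σ g ≠ 0 := Plane.sq_ne hg hg1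
  have hrec : ∀ γ : F, γ * σ γ = 1 →
      C (Λ.symm (γ * g)) + C (Λ.symm (γ * σ g)) = (g + σ g) * C (Λ.symm γ) := fun γ hγ =>
    P.recur L (q := q) hγ hg hg1
  -- the two monomials
  set A : F := (C (Λ.symm g) + C (Λ.symm 1) * σ g) / (g + σ g) with hA
  set B : F := C (Λ.symm 1) + A with hB
  clear_value A B
  have hsol : ∀ n : ℕ, C (Λ.symm (g ^ n)) = A * g ^ n + B * σ (g ^ n) := by
    intro n
    induction n using Nat.strong_induction_on with
    | _ n ih =>
      match n with
      | 0 => rw [pow_zero, map_one σ, mul_one, mul_one, hB]; linear_combination -A * h2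
      | 1 =>
        rw [pow_one, hB, hA]
        field_simp
        linear_combination -(C (Λ.symm 1) * σ g * σ g + C (Λ.symm 1) * g * σ g) * h2
      | n + 2 =>
        have hN : g ^ (n + 1) * σ (g ^ (n + 1)) = 1 := by rw [map_pow, ← mul_pow, hg, one_pow]
        have h := hrec _ hN
        have e1 : g ^ (n + 1) * σ g = g ^ n := by rw [pow_succ, mul_assoc, hg, mul_one]
        rw [e1, ← pow_succ, ih n (by omega), ih (n + 1) (by omega)] at h
        simp only [map_pow] at h ⊢
        linear_combination h + (A * g ^ n + B * σ g ^ n) * hg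
  have hfix : ∀ γ : F, γ * σ γ = 1 → C (Λ.symm γ) = A * γ + B * σ γ := fun γ hγ => by
    obtain ⟨n, rfl⟩ := hpowers γ hγ
    exact hsol n
  have hall : ∀ x : F, x ≠ 0 → C (Λ.symm x) = (A * x + B * σ x) / (x * σ x) := by
    intro x hx
    set N : Fix σ := ⟨x * σ x, hσ.out.norm_fixed x⟩ with hN
    obtain ⟨r, hr⟩ := exists_sqrt N
    have hrr : (r : F) * r = x * σ x := congrArg Subtype.val hr
    have hr0 : (r : F) ≠ 0 := fun e => mul_ne_zero hx ((map_ne_zero σ).2 hx) (by rw [← hrr, e, mul_zero])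
    have hr0' : r ≠ 0 := fun e => hr0 (by rw [e]; rfl)
    have hγ : x / r * σ (x / r) = 1 := by
      rw [map_div₀, fix_apply, div_mul_div_comm, ← hrr, div_self (mul_ne_zero hr0 hr0)]
    have e : Λ.symm x = r • Λ.symm (x / r) := Λ.injective (by
      rw [L.smul, Λ.apply_symm_apply, Λ.apply_symm_apply, mul_div_cancel₀ _ hr0])
    rw [e, P.homog r hr0', hfix _ hγ, map_div₀, fix_apply, ← hrr]
    show (r : F)⁻¹ * _ = _
    field_simp
  -- the rotation leaves one monomial
  obtain ⟨T, hT, hCT, hOT⟩ := P.rot_data (q := q)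
  obtain ⟨w₀, hw₀, hcls⟩ := L.cls
  set Ll : F → F := fun x => A * x + B * σ x with hLl
  have hLadd : ∀ x y, Ll (x + y) = Ll x + Ll y := fun x y => by simp only [hLl, map_add]; ring
  have hLinj : Function.Injective Ll := by
    intro x y h
    by_contra hne
    have h0 : Ll (x + y) = 0 := by rw [hLadd, h, CharTwo.add_self_eq_zero]
    have hxy : x + y ≠ 0 := fun e => hne (CharTwo.add_eq_zero.1 e)
    refine P.ne_zero (Plane.Lam_ne L hxy) ?_
    rw [hall _ hxy, show A * (x + y) + B * σ (x + y) = Ll (x + y) from rfl, h0, zero_div]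
  set k : F := σ A * σ B with hk
  have hnorm : ∀ y, (σ A * Ll y + B * σ (Ll y)) = (A * σ A + B * σ B) * y := fun y => by
    simp only [hLl, map_add, map_mul, hσ.out.invol]
    linear_combination (σ A * B * σ y) * h2
  have hstar : ∀ x : F, x * σ x = (R : F) * R →
      σ (k * (1 + ε * ε) * (Ll x * Ll x)) = k * (1 + ε * ε) * (Ll x * Ll x) := by
    intro x hx
    have hx0 : x ≠ 0 := fun e => mul_ne_zero hR hR (by rw [← hx, e, zero_mul])
    obtain ⟨-, hO, -⟩ := hOT _ (Plane.Lam_ne L hx0)
    have hy0 : T (Λ.symm x) ≠ 0 := (hOT _ (Plane.Lam_ne L hx0)).1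
    set y := Λ (T (Λ.symm x)) with hy
    have hy' : y ≠ 0 := fun e => hy0 (Λ.injective (by rw [← hy, e, map_zero]))
    have hNy : y * σ y = (R : F) * R := by
      refine (hcls _ hy0).1 (hO.trans ((hcls _ (Plane.Lam_ne L hx0)).2 ?_))
      rw [Λ.apply_symm_apply, hx]
    have e := hCT (Λ.symm x)
    rw [← Λ.symm_apply_apply (T (Λ.symm x)), ← hy, hall _ hy', hall _ hx0, hNy, hx] at e
    field_simp at e
    have e' : Ll y = ε * Ll x := e
    have e1 := hnorm x
    have e2 := hnorm y
    rw [e'] at e2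
    have e1' := congrArg σ e1
    have e2' := congrArg σ e2
    have hε := P.ε_norm
    simp only [map_mul, map_add, hσ.out.invol] at e1' e2'
    set M : F := A * σ A + B * σ B with hM
    have p1 : (σ A * Ll x + B * σ (Ll x)) * (A * σ (Ll x) + σ B * Ll x) = M * M * ((R : F) * R) := by
      rw [e1, e1', hM]; linear_combination (A * σ A + B * σ B) * (A * σ A + B * σ B) * hx
    have p2 : (σ A * (ε * Ll x) + B * (σ ε * σ (Ll x))) * (A * (σ ε * σ (Ll x)) + σ B * (ε * Ll x)) =
        M * M * ((R : F) * R) := by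
      rw [map_mul] at e2
      rw [e2, e2', hM]; linear_combination (A * σ A + B * σ B) * (A * σ A + B * σ B) * hNy
    simp only [map_mul, map_add, hσ.out.invol, map_one, hk]
    linear_combination p2 - p1 + (A * B * σ (Ll x) * σ (Ll x) - σ A * σ B * ε * ε * Ll x * Ll x) * h2 -
      M * Ll x * σ (Ll x) * hε
  obtain ⟨s, hs⟩ := Finite.injective_iff_surjective.1 (frobenius_inj F 2) (k * (1 + ε * ε))
  rw [frobenius_def, pow_two] at hs
  have hlin : ∀ x : F, x * σ x = (R : F) * R → σ (s * Ll x) = s * Ll x := fun x hx => by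
    apply frobenius_inj F 2
    rw [frobenius_def, frobenius_def, ← map_pow, pow_two,
      show s * Ll x * (s * Ll x) = k * (1 + ε * ε) * (Ll x * Ll x) by rw [← hs]; ring, hstar x hx]
  have hs0 : s = 0 := by
    by_contra hs0
    have hfixall : ∀ x, σ (s * Ll x) = s * Ll x := by
      intro x
      -- coordinates with respect to `R` and `R g`
      set b : F := (x + σ x) / ((R : F) * (g + σ g)) with hb
      set a : F := (x + b * ((R : F) * g)) / (R : F) with ha
      clear_value a b
      have hbf : σ b = b := by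
        rw [hb, map_div₀, map_add, map_mul, map_add, fix_apply, hσ.out.invol, hσ.out.invol, add_comm (σ x),
          add_comm (σ g)]
      have hb' : b * ((R : F) * (g + σ g)) = x + σ x := by
        rw [hb, div_mul_cancel₀ _ (mul_ne_zero hR hgs)]
      have haf : σ a = a := by
        rw [ha, map_div₀, map_add, map_mul, map_mul, fix_apply, hbf, div_left_inj' hR]
        linear_combination hb' + (σ x - b * (R : F) * g) * h2
      have hx' : x = a * R + b * ((R : F) * g) := by
        rw [ha, div_mul_cancel₀ _ hR]; linear_combination -(b * ((R : F) * g)) * h2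
      have e : Ll x = a * Ll R + b * Ll ((R : F) * g) := by
        rw [hx']; simp only [hLl, map_add, map_mul, haf, hbf]; ring
      have h1 := hlin R (by rw [fix_apply])
      have h3 := hlin ((R : F) * g) (by rw [map_mul, fix_apply]; linear_combination (R : F) * R * hg)
      rw [e, show s * (a * Ll R + b * Ll ((R : F) * g)) = a * (s * Ll R) + b * (s * Ll ((R : F) * g)) by ring,
        map_add, map_mul σ a, map_mul σ b, haf, hbf, h1, h3]
    obtain ⟨z, hz⟩ := hσ.out.exists_not_fixed
    obtain ⟨x, hx⟩ := Finite.injective_iff_surjective.1 hLinj (z / s)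
    have := hfixall x
    rw [hx, mul_div_cancel₀ _ hs0] at this
    exact hz this
  have hk0 : k = 0 := by
    rw [hs0, mul_zero] at hs
    refine (mul_eq_zero.1 hs.symm).resolve_right fun e => P.ε_ne ?_
    have h : (ε + 1) * (ε + 1) = 0 := by linear_combination e + ε * h2
    exact CharTwo.add_eq_zero.1 (mul_self_eq_zero.1 h)
  rcases mul_eq_zero.1 hk0 with h | h
  · have hA0 : A = 0 := (map_eq_zero σ).1 h
    refine ⟨Λ, B, fun e => ?_, L.smul, L.det_eq, fun v hv => ?_⟩
    · refine zero_ne_one (α := F) (hLinj (?_ : Ll 0 = Ll 1))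
      simp [hLl, hA0, e]
    · have hx : Λ v ≠ 0 := fun e => hv (Λ.injective (e.trans (map_zero Λ).symm))
      conv_lhs => rw [← Λ.symm_apply_apply v, hall _ hx, hA0]
      have := (map_ne_zero σ).2 hx
      field_simp
      ring
  · have hB0 : B = 0 := (map_eq_zero σ).1 h
    let σe : F ≃+ F := AddEquiv.mk' ⟨σ, σ, hσ.out.invol, hσ.out.invol⟩ (map_add σ)
    refine ⟨Λ.trans σe, A, fun e => ?_, fun a v => ?_, fun v w => ?_, fun v hv => ?_⟩
    · refine zero_ne_one (α := F) (hLinj (?_ : Ll 0 = Ll 1))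
      simp [hLl, hB0, e]
    · show σ (Λ (a • v)) = a * σ (Λ v)
      rw [L.smul, map_mul, fix_apply]
    · show _ = σ (Λ v) * σ (σ (Λ w)) + σ (σ (Λ v)) * σ (Λ w)
      rw [L.det_eq, hσ.out.invol, hσ.out.invol, add_comm]
    · have hx : Λ v ≠ 0 := fun e => hv (Λ.injective (e.trans (map_zero Λ).symm))
      show _ = A / σ (Λ v)
      conv_lhs => rw [← Λ.symm_apply_apply v, hall _ hx, hB0]
      have := (map_ne_zero σ).2 hx
      field_simp
      ring

end CfsgLib.RankOne.UnitaryUnique
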