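import Cfsg.Agent.Lib.RankOne.UnitaryUnique.Scalar
import Cfsg.Agent.Lib.RankOne.UnitaryUnique.Inverse

/-!
# The coordinate function of the plane

`A x` is the central-quotient coordinate of the image of `x` under the structure map.  Along a coset of the centre
it runs over an affine line of a coordinate function `C` on the plane over the fixed field, and `C` is a `Plane`.
-/

set_option autoImplicit false
set_option linter.style.haveILetI false
set_option linter.unusedSectionVars false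

namespace CfsgLib.RankOne.UnitaryUnique

open MulAction Cfsg CfsgLib.Classical CfsgLib.RankOne.UnitarySylow

universe u v

variable {G : Type u} {Ω : Type v} [Group G] [MulAction G Ω] {a : Ω} {t : G} {Q : Subgroup G}
  {F : Type} [Field F] [Fintype F] [CharP F 2] {σ : F →+* F} {q : ℕ}
  (hS : IsRankOneSetup G Ω a t Q) (U : UCoord₀ a t Q F σ q)

/-- Every element of the fixed field is a square. -/
theorem exists_sqrt_fix (x : Fix σ) : ∃ r : Fix σ, r * r = x := by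
  obtain ⟨r, hr⟩ := Finite.injective_iff_surjective.1 (frobenius_inj F 2) (x : F)
  rw [frobenius_def, pow_two] at hr
  refine ⟨⟨r, ?_⟩, Subtype.ext hr⟩
  show σ r = r
  apply frobenius_inj F 2
  rw [frobenius_def, frobenius_def, ← map_pow, pow_two, hr, fix_apply]

namespace UCoord₀

/-- The coordinate of the image. -/
noncomputable def A (x : G) : F := U.π (fmap a t Q x)

open _root_.Classical in
/-- The coordinate function with base point `x₀`. -/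
noncomputable def frame (x₀ : G) (v : Fix σ × Fix σ) : F :=
  if v.2 = 0 then (U.φ v.1 : F)⁻¹ else (U.φ v.2 : F)⁻¹ * U.A (U.ι (v.1 / v.2) * x₀)

/-- `p + ζ • v` runs over the coordinates of the images of the coset of `x`. -/
def IsPair (C : Fix σ × Fix σ → F) (x : G) (p v : Fix σ × Fix σ) : Prop :=
  det p v = 1 ∧ U.π x = C v ∧ ∀ ζ, U.A (U.ι ζ * x) = C (p + ζ • v)

theorem coe_φ_ne {l : Fix σ} (hl : l ≠ 0) : (U.φ l : F) ≠ 0 := fun h =>
  hl (U.φ_inj ((Subtype.ext h : U.φ l = 0).trans (map_zero U.φ).symm))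

theorem coe_φ_mul (l m : Fix σ) : (U.φ (l * m) : F) = U.φ l * U.φ m := by
  rw [map_mul]; rfl

theorem coe_φ_inv (l : Fix σ) : (U.φ l⁻¹ : F) = (U.φ l : F)⁻¹ := by
  rw [map_inv₀]; rfl

theorem coe_φ_one : (U.φ 1 : F) = 1 := by rw [map_one]; rfl

theorem coe_φ_zero : (U.φ 0 : F) = 0 := by rw [map_zero]; rfl

include hS

theorem π_inv_scalar {k : G} {l : Fix σ} (hk : k ∈ two G a t) (hl : l ≠ 0)
    (hkπ : ∀ x ∈ Q, U.π (k * x * k⁻¹) = (U.φ l : F) * U.π x) {y : G} (hy : y ∈ Q) :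
    U.π (k⁻¹ * y * k) = (U.φ l : F)⁻¹ * U.π y := by
  have h := hkπ _ (conj_mem' hS hk.1 hy)
  rw [show k * (k⁻¹ * y * k) * k⁻¹ = y by group] at h
  rw [h, ← mul_assoc, inv_mul_cancel₀ (U.coe_φ_ne hl), one_mul]

variable [Finite G] (hn : U.Normalised)
include hn

theorem A_ne {x : G} (hx : x ∈ Q) (hπ : U.π x ≠ 0) : U.A x ≠ 0 := U.π_fmap_ne hS hn hx hπ

theorem A_conj {k : G} {l : Fix σ} (hk : k ∈ invertedBy (two G a t) t) (hl : l ≠ 0)
    (hkπ : ∀ x ∈ Q, U.π (k * x * k⁻¹) = (U.φ l : F) * U.π x) {x : G} (hx : x ∈ Q) (h1 : x ≠ 1) :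
    U.A (k * x * k⁻¹) = (U.φ l : F)⁻¹ * U.A x := by
  have htk : t * k * t = k⁻¹ := by have := hk.2; rwa [t_inv hS] at this
  rw [A, fmap_equiv hS hk.1 hx h1, htk, inv_inv, U.π_inv_scalar hS hk.1 hl hkπ (fmap_spec hS hx h1).1]
  rfl

theorem line_A {z : Fix σ} (hz : z ≠ 0) {x : G} (hx : x ∈ Q) (hπ : U.π x ≠ 0) :
    U.A (U.ι z * x) = (U.φ z⁻¹ : F) * U.A (U.ι z⁻¹ * fmap a t Q x) := by
  have h := U.line_rule hS hn hz (fmap_spec hS hx (U.ne_one_of_π hπ)).1 (U.π_fmap_ne hS hn hx hπ)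
  rwa [fmap_fmap hS hx (U.ne_one_of_π hπ)] at h

variable [FaithfulSMul G Ω]

/-- The action of the conjugate by `t` of an element of the two-point stabiliser. -/
theorem conj_t_semilinear {d : G} {u : F} {τ : F ≃+* F} {ν : Fix σ} {τ' : Fix σ ≃+* Fix σ}
    (hd : d ∈ two G a t) (hπ : ∀ x ∈ Q, U.π (d * x * d⁻¹) = u * τ (U.π x))
    (hι : ∀ z, d * U.ι z * d⁻¹ = U.ι (ν * τ' z)) :
    ∀ y ∈ Q, U.π ((t * d * t) * y * (t * d * t)⁻¹) = (U.φ ν : F)⁻¹ * (u * τ (U.π y)) := by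
  have hν : ν ≠ 0 := fun e => by
    have h := hι 1
    rw [e, zero_mul, U.ι_zero] at h
    exact U.ι_ne one_ne_zero (conj_eq_one_iff.1 h)
  obtain ⟨l, hl⟩ := exists_sqrt_fix ν
  have hl0 : l ≠ 0 := fun e => hν (by rw [← hl, e, mul_zero])
  obtain ⟨k, hk, hkπ, hkι⟩ := U.scalar l hl0
  have hti := t_inv hS
  have htk : t * k * t = k⁻¹ := by have := hk.2; rwa [hti] at this
  set d' := t * d * t with hd'
  have hd't : d' ∈ two G a t := conj_t_mem' hS hd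
  -- the conjugate on the centre
  have hι' : ∀ y, d' * U.ι y * d'⁻¹ = U.ι (ν⁻¹ * τ' y) := by
    intro y
    by_cases hy : y = 0
    · rw [hy, map_zero, mul_zero, U.ι_zero, mul_one, mul_inv_cancel]
    have h := fmap_equiv hS hd (U.ι_mem y⁻¹) (U.ι_ne (inv_ne_zero hy))
    rw [hι, hn _ (mul_ne_zero hν (by simpa using hy)), hn _ (inv_ne_zero hy), inv_inv, map_inv₀, mul_inv,
      inv_inv] at h
    exact h.symm
  set w := k⁻¹ * d with hw
  have hwm : w ∈ two G a t := mul_mem (inv_mem hk.1) hd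
  have htw : t * w * t = k * d' := by
    calc t * w * t = (t * k * t)⁻¹ * (t * d * t) := by
          rw [hw, mul_inv_rev, mul_inv_rev, hti]
          calc t * (k⁻¹ * d) * t = t * k⁻¹ * (t * t) * d * t := by rw [hS.mul_self]; group
            _ = t * (k⁻¹ * t) * (t * d * t) := by group
      _ = k * d' := by rw [htk, inv_inv]
  have hwι : ∀ z, w * U.ι z * w⁻¹ = U.ι (τ' z) := by
    intro z
    have h : k * U.ι (τ' z) * k⁻¹ = d * U.ι z * d⁻¹ := by rw [hkι, hl, hι]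
    calc w * U.ι z * w⁻¹ = k⁻¹ * (d * U.ι z * d⁻¹) * k := by rw [hw]; group
      _ = U.ι (τ' z) := by rw [← h]; group
  have htwι : ∀ z, (t * w * t) * U.ι z * (t * w * t)⁻¹ = U.ι (τ' z) := by
    intro z
    calc (t * w * t) * U.ι z * (t * w * t)⁻¹ = k * (d' * U.ι z * d'⁻¹) * k⁻¹ := by rw [htw]; group
      _ = U.ι (τ' z) := by rw [hι', hkι, hl, ← mul_assoc, mul_inv_cancel₀ hν, one_mul]
  set δ := t * w * t * w⁻¹ with hδ
  have hδm : δ ∈ two G a t := mul_mem (conj_t_mem' hS hwm) (inv_mem hwm)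
  have hδι : ∀ z, δ * U.ι z * δ⁻¹ = U.ι z := by
    intro z
    have h := hwι (τ'.symm z)
    rw [τ'.apply_symm_apply] at h
    calc δ * U.ι z * δ⁻¹ = t * w * t * (w⁻¹ * U.ι z * w) * (t * w * t)⁻¹ := by rw [hδ]; group
      _ = t * w * t * U.ι (τ'.symm z) * (t * w * t)⁻¹ := by rw [← h]; group
      _ = U.ι z := by rw [htwι, τ'.apply_symm_apply]
  have hδK : δ ∈ invertedBy (two G a t) t := ⟨hδm, by
    rw [hti, hδ]
    have e : (t * w * t * w⁻¹)⁻¹ = w * (t⁻¹ * w⁻¹ * t⁻¹) := by group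
    rw [hti] at e
    rw [e]
    calc t * (t * w * t * w⁻¹) * t = (t * t) * w * (t * w⁻¹ * t) := by group
      _ = w * (t * w⁻¹ * t) := by rw [hS.mul_self, one_mul]⟩
  obtain ⟨m, hm0, hmπ, hmι⟩ := U.inverted_scalar hS hδK
  have hm1 : m = 1 := by
    have h := U.ι_inj ((hmι 1).symm.trans (hδι 1))
    rw [mul_one] at h
    have h2 : (m + 1) * (m + 1) = 0 := by linear_combination h + (m + 1) * two_fix (σ := σ)
    linear_combination mul_self_eq_zero.1 h2 - two_fix (σ := σ)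
  have hδ1 : δ = 1 := U.eq_one_of_trivial hS hδm
    (fun x hx => by rw [hmπ x hx, hm1, U.coe_φ_one, one_mul]) hδι
  have hkd : k * d' = k⁻¹ * d := by
    rw [← htw, ← hw]; exact mul_inv_eq_one.1 hδ1
  intro y hy
  have hdy := hS.conj_mem d hd.1 y hy
  calc U.π (d' * y * d'⁻¹) = U.π (k⁻¹ * (k⁻¹ * (d * y * d⁻¹) * k) * k) := by
        rw [show d' = k⁻¹ * (k⁻¹ * d) by rw [← hkd]; group]; simp only [mul_inv_rev, inv_inv, mul_assoc]
    _ = (U.φ ν : F)⁻¹ * (u * τ (U.π y)) := by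
      rw [U.π_inv_scalar hS hk.1 hl0 hkπ (conj_mem' hS hk.1.1 hdy),
        U.π_inv_scalar hS hk.1 hl0 hkπ hdy, hπ y hy, ← hl, U.coe_φ_mul, mul_inv]
      ring

section Frame

variable {x₀ : G} (hx₀ : x₀ ∈ Q) (h₀ : U.π x₀ = 1)
include hx₀ h₀

theorem π₀_ne (z : Fix σ) : U.π (U.ι z * x₀) ≠ 0 := by rw [U.π_ι_mul z hx₀, h₀]; exact one_ne_zero

theorem frame_homog {b : Fix σ} (hb : b ≠ 0) (v : Fix σ × Fix σ) :
    U.frame x₀ (b • v) = (U.φ b : F)⁻¹ * U.frame x₀ v := by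
  by_cases h : v.2 = 0
  · rw [frame, frame, if_pos (by simp [h]), if_pos h, Prod.smul_fst, smul_eq_mul, U.coe_φ_mul, mul_inv]
  · rw [frame, frame, if_neg (by simp [h, hb]), if_neg h, Prod.smul_fst, Prod.smul_snd, smul_eq_mul, smul_eq_mul,
      U.coe_φ_mul, mul_inv, mul_div_mul_left _ _ hb, mul_assoc]

theorem frame_inj : Function.Injective (U.frame x₀) := by
  have hAne : ∀ z, U.A (U.ι z * x₀) ≠ 0 := fun z =>
    U.A_ne hS hn (mul_mem (U.ι_mem z) hx₀) (U.π₀_ne hS hn hx₀ h₀ z)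
  -- the base line against the others
  have h1 : ∀ z l, l ≠ 0 → U.A (U.ι z * x₀) ≠ (U.φ l : F) := fun z l hl e =>
    U.not_same_direction hS hn (mul_mem (U.ι_mem z) hx₀) (U.π₀_ne hS hn hx₀ h₀ z) hl
      (by rw [U.π_ι_mul z hx₀, h₀, mul_one]; exact e)
  have h2 : ∀ z z' l, l ≠ 0 → z ≠ z' → U.A (U.ι z * x₀) ≠ (U.φ l : F) * U.A (U.ι z' * x₀) := by
    intro z z' l hl hne e
    set x := U.ι z' * x₀ with hxdef
    have hx : x ∈ Q := mul_mem (U.ι_mem z') hx₀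
    have hπ : U.π x ≠ 0 := U.π₀_ne hS hn hx₀ h₀ z'
    have hw : z + z' ≠ 0 := fun h => hne (by linear_combination h - z' * two_fix (σ := σ))
    have he : U.ι z * x₀ = U.ι (z + z') * x := by
      rw [hxdef, ← mul_assoc, ← U.ι_add, add_assoc, add_self_fix, add_zero]
    rw [he, U.line_A hS hn hw hx hπ, U.coe_φ_inv, inv_mul_eq_iff_eq_mul₀ (U.coe_φ_ne hw), ← mul_assoc,
      ← U.coe_φ_mul] at e
    have hfx := (fmap_spec hS hx (U.ne_one_of_π hπ)).1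
    refine U.not_same_direction hS hn (mul_mem (U.ι_mem (z + z')⁻¹) hfx)
      (by rw [U.π_ι_mul _ hfx]; exact U.π_fmap_ne hS hn hx hπ) (mul_ne_zero hw hl) ?_
    rw [U.π_ι_mul _ hfx]
    exact e
  intro v w e
  simp only [frame] at e
  split_ifs at e with hv hw hw
  · exact Prod.ext (U.φ_inj (Subtype.ext (inv_injective e))) (hv.trans hw.symm)
  · by_cases hv1 : v.1 = 0
    · rw [hv1, U.coe_φ_zero, inv_zero, eq_comm, mul_eq_zero, inv_eq_zero] at e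
      exact absurd e (not_or.2 ⟨U.coe_φ_ne hw, hAne _⟩)
    · refine absurd ?_ (h1 (w.1 / w.2) (w.2 * v.1⁻¹) (mul_ne_zero hw (inv_ne_zero hv1)))
      rw [U.coe_φ_mul, U.coe_φ_inv, e, ← mul_assoc, mul_inv_cancel₀ (U.coe_φ_ne hw), one_mul]
  · by_cases hw1 : w.1 = 0
    · rw [hw1, U.coe_φ_zero, inv_zero, mul_eq_zero, inv_eq_zero] at e
      exact absurd e (not_or.2 ⟨U.coe_φ_ne hv, hAne _⟩)
    · refine absurd ?_ (h1 (v.1 / v.2) (v.2 * w.1⁻¹) (mul_ne_zero hv (inv_ne_zero hw1)))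
      rw [U.coe_φ_mul, U.coe_φ_inv, ← e, ← mul_assoc, mul_inv_cancel₀ (U.coe_φ_ne hv), one_mul]
  · by_cases hz : v.1 / v.2 = w.1 / w.2
    · rw [hz] at e
      have h2' : v.2 = w.2 := U.φ_inj (Subtype.ext (inv_injective (mul_right_cancel₀ (hAne _) e)))
      rw [h2', div_left_inj' hw] at hz
      exact Prod.ext hz h2'
    · refine absurd ?_ (h2 _ _ (v.2 * w.2⁻¹) (mul_ne_zero hv (inv_ne_zero hw)) hz)
      rw [U.coe_φ_mul, U.coe_φ_inv, mul_assoc, ← e, ← mul_assoc, mul_inv_cancel₀ (U.coe_φ_ne hv), one_mul]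

theorem frame_surj : Function.Surjective (U.frame x₀) := by
  haveI : Fact (IsConjugation σ) := ⟨U.conj⟩
  haveI : Fact (Fintype.card F = q ^ 2 ∧ ∀ x, σ x = x ^ q) := ⟨U.card_field⟩
  refine ((Nat.bijective_iff_injective_and_card _).2 ⟨U.frame_inj hS hn hx₀ h₀, ?_⟩).2
  rw [Nat.card_prod, card_Fix (σ := σ) (q := q), Nat.card_eq_fintype_card, U.card_field.1, pow_two]

theorem pair_base : U.IsPair (U.frame x₀) x₀ (0, 1) (1, 0) := by
  refine ⟨by simp [det], ?_, fun ζ => ?_⟩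
  · simp [frame, h₀]
  · simp [frame]

theorem pair_shift {x : G} {p v : Fix σ × Fix σ} (h : U.IsPair (U.frame x₀) x p v) (hx : x ∈ Q) (s : Fix σ) :
    U.IsPair (U.frame x₀) (U.ι s * x) (p + s • v) v := by
  refine ⟨by rw [det_line, h.1], by rw [U.π_ι_mul s hx, h.2.1], fun ζ => ?_⟩
  rw [← mul_assoc, ← U.ι_add, h.2.2, add_smul, add_comm (ζ • v), add_assoc]

theorem frame_ne {v : Fix σ × Fix σ} (hv : v ≠ 0) : U.frame x₀ v ≠ 0 := fun e =>
  hv (U.frame_inj hS hn hx₀ h₀ (e.trans (by simp [frame])))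

theorem pair_π_ne {x : G} {p v : Fix σ × Fix σ} (h : U.IsPair (U.frame x₀) x p v) : U.π x ≠ 0 := by
  rw [h.2.1]
  exact U.frame_ne hS hn hx₀ h₀ fun e => zero_ne_one (α := Fix σ) (by rw [← det_zero_right p, ← e, h.1])

theorem pair_scalar {x : G} {p v : Fix σ × Fix σ} (h : U.IsPair (U.frame x₀) x p v) (hx : x ∈ Q) {k : G}
    {l : Fix σ} (hk : k ∈ invertedBy (two G a t) t) (hl : l ≠ 0)
    (hkπ : ∀ x ∈ Q, U.π (k * x * k⁻¹) = (U.φ l : F) * U.π x)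
    (hkι : ∀ z, k * U.ι z * k⁻¹ = U.ι (l * l * z)) :
    U.IsPair (U.frame x₀) (k * x * k⁻¹) (l • p) (l⁻¹ • v) := by
  refine ⟨by rw [det_smul_left, det_smul_right, h.1, mul_one, mul_inv_cancel₀ hl], ?_, fun ζ => ?_⟩
  · rw [hkπ x hx, U.frame_homog hS hn hx₀ h₀ (inv_ne_zero hl), U.coe_φ_inv, inv_inv, h.2.1]
  · have e : U.ι ζ * (k * x * k⁻¹) = k * (U.ι (l⁻¹ * l⁻¹ * ζ) * x) * k⁻¹ := by
      rw [show k * (U.ι (l⁻¹ * l⁻¹ * ζ) * x) * k⁻¹ = k * U.ι (l⁻¹ * l⁻¹ * ζ) * k⁻¹ * (k * x * k⁻¹) by group, hkι]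
      congr 2
      field_simp
    rw [e, U.A_conj hS hn hk hl hkπ (mul_mem (U.ι_mem _) hx) (U.mul_shift_ne hx (U.pair_π_ne hS hn hx₀ h₀ h)),
      h.2.2, ← U.frame_homog hS hn hx₀ h₀ hl, smul_add, smul_smul, smul_smul]
    congr 3
    field_simp

theorem exists_pair {x : G} (hx : x ∈ Q) (hπ : U.π x ≠ 0) :
    ∃ p v, U.IsPair (U.frame x₀) x p v := by
  obtain ⟨v, hv⟩ := U.frame_surj hS hn hx₀ h₀ (U.π x)
  -- an element of the same image with a pair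
  suffices h : ∃ y ∈ Q, U.π y = U.π x ∧ ∃ p w, U.IsPair (U.frame x₀) y p w by
    obtain ⟨y, hy, e, p, w, h⟩ := h
    obtain ⟨z, rfl⟩ := U.exists_shift hy hx e
    exact ⟨_, _, U.pair_shift hS hn hx₀ h₀ h hy z⟩
  by_cases hr : v.2 = 0
  · have hs : v.1 ≠ 0 := fun e => hπ (by rw [← hv]; simp [frame, hr, e])
    obtain ⟨k, hk, hkπ, hkι⟩ := U.scalar v.1⁻¹ (inv_ne_zero hs)
    refine ⟨k * x₀ * k⁻¹, hS.conj_mem k hk.1.1 _ hx₀, ?_, _, _,
      U.pair_scalar hS hn hx₀ h₀ (U.pair_base hS hn hx₀ h₀) hx₀ hk (inv_ne_zero hs) hkπ hkι⟩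
    rw [hkπ _ hx₀, h₀, mul_one, U.coe_φ_inv, ← hv]
    simp [frame, hr]
  · set z₀ := v.1 / v.2
    have hx0 : U.ι z₀ * x₀ ∈ Q := mul_mem (U.ι_mem _) hx₀
    have hp0 := U.π₀_ne hS hn hx₀ h₀ z₀
    set x₁ := fmap a t Q (U.ι z₀ * x₀) with hx₁def
    have hx₁ : x₁ ∈ Q := (fmap_spec hS hx0 (U.ne_one_of_π hp0)).1
    have hp1 : U.π x₁ ≠ 0 := U.π_fmap_ne hS hn hx0 hp0
    have hf1 : fmap a t Q x₁ = U.ι z₀ * x₀ := fmap_fmap hS hx0 (U.ne_one_of_π hp0)
    have h : U.IsPair (U.frame x₀) x₁ (1, 0) (z₀, 1) := by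
      refine ⟨by simp [det], ?_, fun ζ => ?_⟩
      · simp [frame, U.coe_φ_one, A, hx₁def]
      · by_cases hζ : ζ = 0
        · rw [hζ, zero_smul, add_zero, U.ι_zero, one_mul, A, hf1, U.π_ι_mul _ hx₀, h₀]
          simp [frame, U.coe_φ_one]
        · have e : ((1, 0) : Fix σ × Fix σ) + ζ • (z₀, 1) = ζ • (ζ⁻¹ + z₀, 1) := by
            refine Prod.ext ?_ ?_ <;> simp [mul_add, hζ]
          rw [U.line_A hS hn hζ hx₁ hp1, hf1, e, U.frame_homog hS hn hx₀ h₀ hζ, ← mul_assoc (U.ι ζ⁻¹), ← U.ι_add,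
            U.coe_φ_inv]
          simp [frame, U.coe_φ_one]
    obtain ⟨k, hk, hkπ, hkι⟩ := U.scalar v.2⁻¹ (inv_ne_zero hr)
    refine ⟨k * x₁ * k⁻¹, hS.conj_mem k hk.1.1 _ hx₁, ?_, _, _,
      U.pair_scalar hS hn hx₀ h₀ h hx₁ hk (inv_ne_zero hr) hkπ hkι⟩
    rw [hkπ _ hx₁, U.coe_φ_inv, ← hv, hx₁def]
    simp [frame, hr, A, z₀]

theorem exists_of_pair {p v : Fix σ × Fix σ} (h : det p v = 1) : ∃ x ∈ Q, U.IsPair (U.frame x₀) x p v := by
  obtain ⟨x, hx, hπ⟩ := U.π_surj (U.frame x₀ v)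
  have hv : v ≠ 0 := fun e => zero_ne_one (α := Fix σ) (by rw [← det_zero_right p, ← e, h])
  obtain ⟨p', v', h'⟩ := U.exists_pair hS hn hx₀ h₀ hx (hπ ▸ U.frame_ne hS hn hx₀ h₀ hv)
  obtain rfl : v' = v := U.frame_inj hS hn hx₀ h₀ (h'.2.1.symm.trans hπ)
  refine ⟨U.ι (det p' p) * x, mul_mem (U.ι_mem _) hx, ?_⟩
  have := U.pair_shift hS hn hx₀ h₀ h' hx (det p' p)
  rwa [← line_param h'.1 h] at this

/-- The semilinear map of the plane attached to an element of the two-point stabiliser. -/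
theorem exists_transfer {d : G} {u : F} {τ : F ≃+* F} {ν : Fix σ} {τ' : Fix σ ≃+* Fix σ}
    (hd : d ∈ two G a t) (hu : u ≠ 0) (hπ : ∀ x ∈ Q, U.π (d * x * d⁻¹) = u * τ (U.π x))
    (hι : ∀ z, d * U.ι z * d⁻¹ = U.ι (ν * τ' z)) :
    ν ≠ 0 ∧ ∃ L : Fix σ × Fix σ → Fix σ × Fix σ, (∀ v, U.frame x₀ (L v) = u * τ (U.frame x₀ v)) ∧
      ∀ p v, det p v = 1 → det (L p) (L v) = ν⁻¹ ∧ ∀ ζ, L (p + ζ • v) = L p + τ' ζ • L v := by
  have hν : ν ≠ 0 := fun e => by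
    have h := hι 1
    rw [e, zero_mul, U.ι_zero] at h
    exact U.ι_ne one_ne_zero (conj_eq_one_iff.1 h)
  choose L hL using fun v => U.frame_surj hS hn hx₀ h₀ (u * τ (U.frame x₀ v))
  refine ⟨hν, L, hL, fun p v hdet => ?_⟩
  obtain ⟨x, hx, h⟩ := U.exists_of_pair hS hn hx₀ h₀ hdet
  have hπx := U.pair_π_ne hS hn hx₀ h₀ h
  have hdx := hS.conj_mem d hd.1 x hx
  obtain ⟨p', v', h'⟩ := U.exists_pair hS hn hx₀ h₀ hdx (by
    rw [hπ x hx]; exact mul_ne_zero hu (by simpa using hπx))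
  obtain rfl : v' = L v := U.frame_inj hS hn hx₀ h₀ (by rw [← h'.2.1, hπ x hx, h.2.1, hL])
  have key : ∀ ζ, p' + (ν * τ' ζ) • L v = ν • L (p + ζ • v) := by
    intro ζ
    refine U.frame_inj hS hn hx₀ h₀ ?_
    have hm := mul_mem (U.ι_mem ζ) hx
    have h1 := U.mul_shift_ne (z := ζ) hx hπx
    have e : U.ι (ν * τ' ζ) * (d * x * d⁻¹) = d * (U.ι ζ * x) * d⁻¹ := by rw [← hι]; group
    rw [← h'.2.2, e, U.frame_homog hS hn hx₀ h₀ hν, hL, A, fmap_equiv hS hd hm h1,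
      U.conj_t_semilinear hS hn hd hπ hι _ (fmap_spec hS hm h1).1, show U.π (fmap a t Q (U.ι ζ * x)) = _ from
      h.2.2 ζ]
  have k0 : p' = ν • L p := by simpa using key 0
  refine ⟨?_, fun ζ => ?_⟩
  · have h1 := h'.1
    rw [k0, det_smul_left] at h1
    exact eq_inv_of_mul_eq_one_right h1
  · have h1 := key ζ
    rw [k0, ← smul_smul, ← smul_add] at h1
    exact (smul_right_injective _ hν h1).symm

theorem plane_key {p v : Fix σ × Fix σ} (hdet : det p v = 1) :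
    ∃ (Y : Fix σ × Fix σ) (τ : Fix σ ≃+* Fix σ), det p Y ≠ 0 ∧ ∀ ζ : Fix σ, ζ ≠ 0 →
      U.frame x₀ (p + ζ • v) + U.frame x₀ p = U.frame x₀ (p + τ ζ⁻¹ • Y) := by
  obtain ⟨x, hx, h⟩ := U.exists_of_pair hS hn hx₀ h₀ hdet
  have hπx := U.pair_π_ne hS hn hx₀ h₀ h
  have hx1 := U.ne_one_of_π hπx
  obtain ⟨e, he⟩ := U.exists_sq hx
  have hxi : x⁻¹ = U.ι e * x := by
    refine (eq_inv_of_mul_eq_one_left ?_).symm
    rw [mul_assoc, ← he, U.ι_sq]
  obtain ⟨hd, hh, g, hg, eg⟩ := exists_struct hS hx hx1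
  obtain ⟨u, τ, ν, τ', hu, -, hπd, hιd⟩ := U.semilinear hd hh
  obtain ⟨hν, L, hL, hLrule⟩ := U.exists_transfer hS hn hx₀ h₀ hh hu hπd hιd
  have hinv := (struct_inv hS hx hx1 hh hg eg).1
  set x' := fmap a t Q x⁻¹ with hx'def
  have hxi1 : x⁻¹ ≠ 1 := inv_ne_one.2 hx1
  have hx' : x' ∈ Q := (fmap_spec hS (inv_mem hx) hxi1).1
  have hπx' : U.π x' ≠ 0 := U.π_fmap_ne hS hn (inv_mem hx) (by rw [U.π_inv hx]; exact hπx)
  set w := p + e • v with hw
  have hdw : det v w = 1 := by rw [det_comm, hw, det_line, hdet]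
  have hpx' : U.IsPair (U.frame x₀) x' v w := by
    obtain ⟨p'', v'', h''⟩ := U.exists_pair hS hn hx₀ h₀ hx' hπx'
    obtain rfl : v'' = w := U.frame_inj hS hn hx₀ h₀ (by
      rw [← h''.2.1, hx'def, hxi]; exact h.2.2 e)
    obtain rfl : p'' = v := U.frame_inj hS hn hx₀ h₀ (by
      have e1 := h''.2.2 0
      rw [U.ι_zero, one_mul, zero_smul, add_zero, A, hx'def, fmap_fmap hS (inv_mem hx) hxi1, U.π_inv hx,
        h.2.1] at e1
      exact e1.symm)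
    exact h''
  obtain ⟨e', he'⟩ := U.exists_sq hx'
  have hgx : g = U.ι e' * x' := by
    have e1 : x'⁻¹ = U.ι e' * x' := by
      refine (eq_inv_of_mul_eq_one_left ?_).symm
      rw [mul_assoc, ← he', U.ι_sq]
    rw [← e1, hinv, inv_inv]
  have hpg : U.IsPair (U.frame x₀) g (v + e' • w) w := hgx ▸ U.pair_shift hS hn hx₀ h₀ hpx' hx' e'
  have hAg : ∀ r : Fix σ, U.π (hd * fmap a t Q (U.ι r * g) * hd⁻¹) =
      U.frame x₀ (L (v + e' • w) + τ' r • L w) := by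
    intro r
    rw [hπd _ (fmap_spec hS (mul_mem (U.ι_mem r) hg)
        (U.mul_shift_ne hg (U.pair_π_ne hS hn hx₀ h₀ hpg))).1,
      show U.π (fmap a t Q (U.ι r * g)) = _ from hpg.2.2 r, ← hL, (hLrule _ _ hpg.1).2 r]
  have hAx : U.π (fmap a t Q x) = U.frame x₀ p := by
    have := h.2.2 0
    rwa [U.ι_zero, one_mul, zero_smul, add_zero] at this
  have hLp : L (v + e' • w) = p := by
    refine U.frame_inj hS hn hx₀ h₀ ?_
    have h1 := hAg 0
    rw [U.ι_zero, one_mul, map_zero, zero_smul, add_zero, composite_one hS hx hx1 hh hg eg] at h1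
    rw [← h1, ← hAx, ← U.π_inv (fmap_spec hS hx hx1).1]
    congr 1
    group
  refine ⟨L w, τ', ?_, fun ζ hζ => ?_⟩
  · rw [← hLp, (hLrule _ _ hpg.1).1]; exact inv_ne_zero hν
  · have hr : ζ⁻¹ ≠ 0 := inv_ne_zero hζ
    have hxy : x * fmap a t Q (U.ι ζ⁻¹) ≠ 1 := by
      rw [hn _ hr, inv_inv, ← U.ι_comm ζ x hx]; exact U.mul_shift_ne hx hπx
    obtain ⟨hgy, e3⟩ := composite hS hx hx1 hh hg eg (U.ι_mem ζ⁻¹) (U.ι_ne hr) hxy
    rw [hn _ hr, inv_inv, ← U.ι_comm ζ x hx, ← U.ι_comm ζ⁻¹ g hg] at e3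
    have h1 := congrArg U.π e3
    rw [U.π_mul _ (fmap_spec hS hx hx1).1 _ (hS.conj_mem hd hh.1 _
      (fmap_spec hS (mul_mem (U.ι_mem _) hg) (U.mul_shift_ne hg (U.pair_π_ne hS hn hx₀ h₀ hpg))).1),
      hAg, hAx, hLp, show U.π (fmap a t Q (U.ι ζ * x)) = _ from h.2.2 ζ] at h1
    rw [h1, add_right_comm, CharTwo.add_self_eq_zero, zero_add]

theorem plane : Plane (U.frame x₀) U.φ U.ε where
  zero := by simp [frame]
  inj := U.frame_inj hS hn hx₀ h₀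
  surj := U.frame_surj hS hn hx₀ h₀
  φ_inj := U.φ_inj
  homog _ hb v := U.frame_homog hS hn hx₀ h₀ hb v
  key _ _ h := U.plane_key hS hn hx₀ h₀ h
  ε_norm := U.ε_norm
  ε_ne := U.ε_ne
  rot := by
    obtain ⟨w, hw, -, hwπ, hwι⟩ := U.rotation
    have hε : U.ε ≠ 0 := fun e => one_ne_zero (α := F) (by rw [← U.ε_norm, e, zero_mul])
    obtain ⟨-, L, hL, hrule⟩ := U.exists_transfer hS hn hx₀ h₀ (τ := RingEquiv.refl F) (ν := 1)
      (τ' := RingEquiv.refl _) hw hε (fun x hx => by rw [hwπ x hx]; rfl) (fun z => by rw [hwι, one_mul]; rfl)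
    have hC : ∀ v, U.frame x₀ (L v) = U.ε * U.frame x₀ v := hL
    refine ⟨L, fun v w => ?_, hC⟩
    have hsmul : ∀ (b : Fix σ) v, b ≠ 0 → L (b • v) = b • L v := fun b v hb => U.frame_inj hS hn hx₀ h₀ (by
      rw [hC, U.frame_homog hS hn hx₀ h₀ hb, U.frame_homog hS hn hx₀ h₀ hb, hC]; ring)
    have hL0 : L 0 = 0 := U.frame_inj hS hn hx₀ h₀ (by rw [hC]; simp [frame])
    by_cases hd : det v w = 0
    · rw [hd]
      by_cases hv : v = 0
      · rw [hv, hL0, det_zero_left]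
      obtain ⟨p, hp⟩ := exists_det_one hv
      have hw' := basis_decomp hp w
      rw [det_comm w v, hd, zero_smul, add_zero] at hw'
      by_cases hb : det p w = 0
      · rw [hw', hb, zero_smul, hL0, det_zero_right]
      · rw [hw', hsmul _ _ hb, det_smul_right, det_self, mul_zero]
    · set b := det v w
      have h1 : det v (b⁻¹ • w) = 1 := by rw [det_smul_right, inv_mul_cancel₀ hd]
      have h2 := (hrule _ _ h1).1
      rw [hsmul _ _ (inv_ne_zero hd), det_smul_right, inv_one, inv_mul_eq_one₀ hd] at h2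
      exact h2.symm

end Frame

/-- The coordinate function. -/
theorem exists_plane : ∃ C, Plane C U.φ U.ε ∧
    (∀ x ∈ Q, U.π x ≠ 0 → ∃ p v, det p v = 1 ∧ U.π x = C v ∧ ∀ ζ, U.A (U.ι ζ * x) = C (p + ζ • v)) ∧
    ∀ p v, det p v = 1 → ∃ x ∈ Q, U.π x = C v ∧ ∀ ζ, U.A (U.ι ζ * x) = C (p + ζ • v) := by
  obtain ⟨x₀, hx₀, h₀⟩ := U.π_surj 1
  exact ⟨U.frame x₀, U.plane hS hn hx₀ h₀, fun x hx hπ => U.exists_pair hS hn hx₀ h₀ hx hπ,
    fun p v h => (U.exists_of_pair hS hn hx₀ h₀ h).imp fun x hx => ⟨hx.1, hx.2.2⟩⟩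

omit hn in
include hS in
/-- The multiplier is the restriction of a field automorphism commuting with the conjugation. -/
theorem exists_extend : ∃ φe : F ≃+* F, (∀ b : Fix σ, φe b = U.φ b) ∧ ∀ x, σ (φe x) = φe (σ x) := by
  classical
  haveI : Fact (IsConjugation σ) := ⟨U.conj⟩
  haveI : Fact (Fintype.card F = q ^ 2 ∧ ∀ x, σ x = x ^ q) := ⟨U.card_field⟩
  obtain ⟨κ, hκ, hκf⟩ := U.exists_kappa hS
  obtain ⟨r, hr⟩ := exists_sqrt_fix κ
  have hr0 : r ≠ 0 := fun e => hκ (by rw [← hr, e, mul_zero])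
  -- the centre rescaled
  let U' : UCoord₀ a t Q F σ q :=
    { U with
      ι := fun z => U.ι (r * z)
      π_eq_zero := fun x hx => (U.π_eq_zero x hx).trans
        ⟨fun ⟨z, hz⟩ => ⟨r⁻¹ * z, by rw [← mul_assoc, mul_inv_cancel₀ hr0, one_mul, hz]⟩,
          fun ⟨z, hz⟩ => ⟨r * z, hz⟩⟩
      ι_mem := fun z => U.ι_mem _
      ι_add := fun z z' => by rw [mul_add, U.ι_add]
      ι_inj := fun z z' e => mul_left_cancel₀ hr0 (U.ι_inj e)
      ι_comm := fun z => U.ι_comm _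
      semilinear := fun d hd => by
        obtain ⟨u, τ, ν, τ', h1, h2, h3, h4⟩ := U.semilinear d hd
        refine ⟨u, τ, ν * τ' r * r⁻¹, τ', h1, h2, h3, fun z => ?_⟩
        rw [h4, map_mul]
        congr 1
        field_simp
      scalar := fun l hl => by
        obtain ⟨k, hk, h1, h2⟩ := U.scalar l hl
        refine ⟨k, hk, h1, fun z => ?_⟩
        rw [h2, mul_left_comm]
      rotation := by
        obtain ⟨w, hw, h1, h2, h3⟩ := U.rotation
        exact ⟨w, hw, h1, h2, fun z => h3 _⟩ }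
  have hn' : U'.Normalised := fun z hz => by
    change fmap a t Q (U.ι (r * z)) = U.ι (r * z⁻¹)
    rw [hκf _ (mul_ne_zero hr0 hz), ← hr]
    congr 1
    field_simp
  obtain ⟨C, P, -⟩ := U'.exists_plane hS hn'
  exact P.exists_extend (q := q)

end UCoord₀

end CfsgLib.RankOne.UnitaryUnique
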