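import Cfsg.Agent.Lib.RankOne.UnitaryUnique.Inverse
import Cfsg.Agent.Lib.RankOne.UnitaryUnique.ToPlane
import Cfsg.Agent.Lib.RankOne.UnitaryUnique.Formula
import Cfsg.Agent.Lib.RankOne.Split.HeisAut

/-!
# Normalised coordinates give the standard map

For `x` off the centre put `β = c / c'`, with `c'` the first coordinate of the image of `x` under the
structure map. Then `β + σ β` is the norm of `c`, and `b + β` depends only on `c`, is equivariant and
additive enough to vanish.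
-/

set_option autoImplicit false
set_option linter.style.haveILetI false
set_option linter.unusedSectionVars false

namespace CfsgLib.RankOne.UnitaryUnique

open MulAction Cfsg CfsgLib.Classical CfsgLib.RankOne.UnitarySylow

universe u v

variable {G : Type u} {Ω : Type v} [Group G] [MulAction G Ω] {a : Ω} {t : G} {Q : Subgroup G}
  {F : Type} [Field F] [Fintype F] [CharP F 2] {σ : F →+* F} {q : ℕ}

/-- The norm, in the fixed field. -/
def nF (σ : F →+* F) [hσ : Fact (IsConjugation σ)] (c : F) : Fix σ := ⟨c * σ c, hσ.out.norm_fixed c⟩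

namespace UCoord

variable [hσ : Fact (IsConjugation σ)] [hq : Fact (Fintype.card F = q ^ 2 ∧ ∀ x, σ x = x ^ q)]
  (U : UCoord a t Q F σ q)

open _root_.Classical in
/-- The coordinates of an element. -/
noncomputable def co (x : G) : Heis σ := if h : x ∈ Q then U.θ.symm ⟨x, h⟩ else 1

theorem co_θ (g : Heis σ) : U.co (U.θ g : G) = g := by
  rw [co, dif_pos (U.θ g).2]; exact U.θ.symm_apply_apply g

theorem θ_co {x : G} (hx : x ∈ Q) : (U.θ (U.co x) : G) = x := by
  rw [co, dif_pos hx, U.θ.apply_symm_apply]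

theorem co_mul {x y : G} (hx : x ∈ Q) (hy : y ∈ Q) : U.co (x * y) = U.co x * U.co y := by
  rw [co, co, co, dif_pos (mul_mem hx hy), dif_pos hx, dif_pos hy, ← map_mul]; rfl

theorem co_inv {x : G} (hx : x ∈ Q) : U.co x⁻¹ = (U.co x)⁻¹ := by
  rw [co, co, dif_pos (inv_mem hx), dif_pos hx, ← map_inv]; rfl

theorem co_one : U.co 1 = 1 := by
  rw [co, dif_pos (one_mem Q)]; exact map_one U.θ.symm

theorem co_inj {x y : G} (hx : x ∈ Q) (hy : y ∈ Q) (h : U.co x = U.co y) : x = y := by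
  rw [← U.θ_co hx, h, U.θ_co hy]

theorem co_conj {d : G} {u : Fˣ} {τ : F ≃+* F}
    (h : ∀ g, (U.θ (simAut (q := q) u τ g) : G) = d * U.θ g * d⁻¹) {x : G} (hx : x ∈ Q) :
    U.co (d * x * d⁻¹) = simAut (q := q) u τ (U.co x) := by
  conv_lhs => rw [← U.θ_co hx, ← h, co_θ]

/-- The restriction of an automorphism to the fixed field. -/
noncomputable def restrictFix (τ : F ≃+* F) : Fix σ ≃+* Fix σ where
  toFun z := ⟨τ z, by show σ (τ z) = τ z; rw [comm_frob (σ := σ) (q := q), fix_apply]⟩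
  invFun z := ⟨τ.symm z, by show σ (τ.symm z) = τ.symm z; rw [comm_frob (σ := σ) (q := q), fix_apply]⟩
  left_inv z := Subtype.ext (τ.symm_apply_apply z)
  right_inv z := Subtype.ext (τ.apply_symm_apply z)
  map_mul' z w := Subtype.ext (map_mul τ _ _)
  map_add' z w := Subtype.ext (map_add τ _ _)

theorem conj_cent {d : G} {u : Fˣ} {τ : F ≃+* F}
    (h : ∀ g, (U.θ (simAut (q := q) u τ g) : G) = d * U.θ g * d⁻¹) (z : Fix σ) :
    d * (U.θ (cent (z : F) (fix_apply z)) : G) * d⁻¹ =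
      U.θ (cent ((nF σ (u : F) * restrictFix (q := q) τ z : Fix σ) : F) (fix_apply _)) := by
  rw [← h]
  refine congrArg (fun g => ((U.θ g : Q) : G)) (Heis.ext ?_ rfl)
  show (u : F) * τ 0 = 0
  rw [map_zero, mul_zero]

/-- The coordinates with a multiplier. -/
noncomputable def to₀ : UCoord₀ a t Q F σ q where
  π x := (U.co x).c
  ι z := U.θ (cent (z : F) (fix_apply z))
  φ := MonoidWithZeroHom.id (Fix σ)
  ε := U.ε
  conj := hσ.out
  card_field := hq.out
  four_le := U.four_le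
  π_mul x hx y hy := by rw [U.co_mul hx hy]; rfl
  π_surj c := by
    obtain ⟨g, rfl⟩ := exists_elt (σ := σ) c
    exact ⟨U.θ g, (U.θ g).2, by rw [co_θ]⟩
  π_eq_zero x hx := by
    constructor
    · intro h
      refine ⟨⟨(U.co x).b, fixed_of_c_eq_zero h⟩, ?_⟩
      conv_rhs => rw [← U.θ_co hx]
      exact congrArg (fun g => ((U.θ g : Q) : G)) (Heis.ext h.symm rfl)
    · rintro ⟨z, rfl⟩
      rw [co_θ]; rfl
  π_invol x hx h := by
    refine (mul_self_eq_one (U.co x)).1 ?_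
    rw [← U.co_mul hx hx, h, co_one]
  ι_mem z := (U.θ _).2
  ι_add z z' := by
    rw [← Subgroup.coe_mul, ← map_mul, cent_mul]
    rfl
  ι_inj z z' h := Subtype.ext (congrArg Heis.b (U.θ.injective (Subtype.ext h)))
  ι_comm z x hx := by
    refine U.co_inj (mul_mem (U.θ _).2 hx) (mul_mem hx (U.θ _).2) ?_
    rw [U.co_mul (U.θ _).2 hx, U.co_mul hx (U.θ _).2, co_θ]
    exact (Subgroup.mem_center_iff.1 (cent_mem _ _) _).symm
  φ_inj _ _ h := h
  semilinear d hd := by
    obtain ⟨u, τ, hτ, h⟩ := U.semilinear d hd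
    refine ⟨u, τ, nF σ (u : F), restrictFix (q := q) τ, u.ne_zero, hτ, fun x hx => ?_, U.conj_cent h⟩
    rw [U.co_conj h hx]; rfl
  scalar l hl := by
    obtain ⟨k, hk, h⟩ := U.scalar (Units.mk0 (l : F) fun e => hl (Subtype.ext e)) (fix_apply l)
    refine ⟨k, hk, fun x hx => ?_, fun z => ?_⟩
    · rw [U.co_conj h hx]; rfl
    · rw [U.conj_cent h]
      refine congrArg (fun g => ((U.θ g : Q) : G)) (Heis.ext rfl ?_)
      show (l : F) * σ (l : F) * (z : F) = (l : F) * (l : F) * (z : F)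
      rw [fix_apply]
  rotation := by
    obtain ⟨w, hw, hwt, e, he, h⟩ := U.rotation
    refine ⟨w, hw, hwt, fun x hx => ?_, fun z => ?_⟩
    · rw [U.co_conj h hx, ← he]; rfl
    · rw [U.conj_cent h]
      refine congrArg (fun g => ((U.θ g : Q) : G)) (Heis.ext rfl ?_)
      show (e : F) * σ (e : F) * (z : F) = z
      rw [he, U.ε_norm, one_mul]
  ε_norm := U.ε_norm
  ε_ne := U.ε_ne

theorem π_eq (x : G) : U.to₀.π x = (U.co x).c := rfl

theorem co_ι (z : Fix σ) : U.co (U.to₀.ι z) = cent (z : F) (fix_apply z) := U.co_θ _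

theorem b_ι_mul (z : Fix σ) {x : G} (hx : x ∈ Q) : (U.co (U.to₀.ι z * x)).b = (z : F) + (U.co x).b := by
  rw [U.co_mul (U.to₀.ι_mem z) hx, U.co_ι, mul_b]
  simp [cent]

theorem inv_eq_ι_mul {x : G} (hx : x ∈ Q) : x⁻¹ = U.to₀.ι (nF σ (U.co x).c) * x := by
  refine U.co_inj (inv_mem hx) (mul_mem (U.to₀.ι_mem _) hx) ?_
  rw [U.co_inv hx, U.co_mul (U.to₀.ι_mem _) hx, U.co_ι]
  refine Heis.ext ?_ ?_
  · rw [inv_c, mul_c]; simp [cent]
  · rw [inv_b, mul_b]; simp [cent, nF, add_comm]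

/-- Rescaled coordinates. -/
noncomputable def rescale (s : Fˣ) : UCoord a t Q F σ q where
  θ := (simAut (q := q) s (RingEquiv.refl F)).trans U.θ
  ε := U.ε
  four_le := U.four_le
  semilinear d hd := by
    obtain ⟨u, τ, hτ, h⟩ := U.semilinear d hd
    refine ⟨u * Units.map (τ : F →* F) s * s⁻¹, τ, hτ, fun g => ?_⟩
    show (U.θ (simAut (q := q) s (RingEquiv.refl F) (simAut (q := q) _ τ g)) : G) =
      d * U.θ (simAut (q := q) s (RingEquiv.refl F) g) * d⁻¹
    rw [← h, ← MulAut.mul_apply, ← MulAut.mul_apply, simAut_mul, simAut_mul]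
    refine congrArg₂ (fun a b => ((U.θ (simAut (q := q) a b g) : Q) : G)) (Units.ext ?_) (RingEquiv.ext fun _ => rfl)
    show (s : F) * ((u : F) * τ (s : F) * ((s⁻¹ : Fˣ) : F)) = (u : F) * τ (s : F)
    rw [Units.val_inv_eq_inv_val]
    field_simp
  scalar l hl := by
    obtain ⟨k, hk, h⟩ := U.scalar l hl
    refine ⟨k, hk, fun g => ?_⟩
    show (U.θ (simAut (q := q) s (RingEquiv.refl F) (simAut (q := q) l _ g)) : G) =
      k * U.θ (simAut (q := q) s (RingEquiv.refl F) g) * k⁻¹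
    rw [← h, ← MulAut.mul_apply, ← MulAut.mul_apply, simAut_mul, simAut_mul]
    refine congrArg (fun a => ((U.θ (simAut (q := q) a _ g) : Q) : G)) (Units.ext ?_)
    exact mul_comm _ _
  rotation := by
    obtain ⟨w, hw, hwt, e, he, h⟩ := U.rotation
    refine ⟨w, hw, hwt, e, he, fun g => ?_⟩
    show (U.θ (simAut (q := q) s (RingEquiv.refl F) (simAut (q := q) e _ g)) : G) =
      w * U.θ (simAut (q := q) s (RingEquiv.refl F) g) * w⁻¹
    rw [← h, ← MulAut.mul_apply, ← MulAut.mul_apply, simAut_mul, simAut_mul]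
    refine congrArg (fun a => ((U.θ (simAut (q := q) a _ g) : Q) : G)) (Units.ext ?_)
    exact mul_comm _ _
  ε_norm := U.ε_norm
  ε_ne := U.ε_ne

variable (hS : IsRankOneSetup G Ω a t Q) [Finite G] [FaithfulSMul G Ω]
include hS

include U in
/-- The coordinates may be normalised on the centre. -/
theorem exists_normalised : ∃ U' : UCoord a t Q F σ q, U'.to₀.Normalised := by
  obtain ⟨κ, hκ, hfm⟩ := U.to₀.exists_kappa hS
  obtain ⟨r, hr⟩ := exists_sqrt (σ := σ) κ
  obtain ⟨s, hs⟩ := exists_sqrt (σ := σ) r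
  have hs0 : (s : F) ≠ 0 := fun e => hκ (by
    rw [← hr, ← hs, show s = 0 from Subtype.ext e]; simp)
  refine ⟨U.rescale (Units.mk0 (s : F) hs0), fun z hz => ?_⟩
  have hs' : s ≠ 0 := fun e => hs0 (by rw [e]; rfl)
  have hι : ∀ w : Fix σ, (U.rescale (Units.mk0 (s : F) hs0)).to₀.ι w = U.to₀.ι (s * s * w) := fun w => by
    refine congrArg (fun g => ((U.θ g : Q) : G)) (Heis.ext ?_ ?_)
    · show (s : F) * 0 = 0
      rw [mul_zero]
    · show (s : F) * σ (s : F) * (w : F) = (s : F) * (s : F) * (w : F)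
      rw [fix_apply]
  rw [hι, hι, hfm _ (mul_ne_zero (mul_ne_zero hs' hs') hz)]
  congr 1
  rw [← hr, ← hs]
  field_simp

/-- The quotient of first coordinates. -/
noncomputable def beta (x : G) : F := (U.co x).c / (U.co (fmap a t Q x)).c

variable (hn : U.to₀.Normalised)
include hn

/-- The rule along the line, with a common factor in the trace. -/
theorem exists_trace : ∃ n : F, ∀ x ∈ Q, (U.co x).c ≠ 0 →
    U.beta x + σ (U.beta x) = n * ((U.co x).c * σ (U.co x).c) ∧ n ≠ 0 ∧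
      ∀ ζ : Fix σ, (U.co (fmap a t Q (U.to₀.ι ζ * x))).c * (U.beta x + ζ) = (U.co x).c := by
  classical
  obtain ⟨C, P, hrel, -⟩ := U.to₀.exists_plane hS hn
  have P' : Plane C (MonoidWithZeroHom.id (Fix σ)) U.ε := P
  obtain ⟨Λ, θ₀, hθ₀, hsmul, hdet, hC⟩ := exists_inverse (q := q) P'
  refine ⟨(θ₀ * σ θ₀)⁻¹, fun x hx hc => ?_⟩
  obtain ⟨p, v, hpv, hπv, hA⟩ := hrel x hx hc
  rw [π_eq] at hπv
  have hv : v ≠ 0 := fun e => one_ne_zero (hpv.symm.trans (by rw [e, det_zero_right]))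
  have hpne : ∀ ζ : Fix σ, p + ζ • v ≠ 0 := fun ζ e => one_ne_zero ((det_line p v ζ).trans hpv |>.symm.trans
    (by rw [e, det_zero_left]))
  have hΛ : ∀ {w}, w ≠ 0 → Λ w ≠ 0 := fun hw e => hw (Λ.injective (e.trans (map_zero Λ).symm))
  have hA' : ∀ ζ : Fix σ, (U.co (fmap a t Q (U.to₀.ι ζ * x))).c = θ₀ / (Λ p + ζ * Λ v) := fun ζ => by
    have h := hA ζ
    rw [hC _ (hpne ζ), map_add, hsmul] at h
    exact h
  have h0 : (U.co (fmap a t Q x)).c = θ₀ / Λ p := by
    have h := hA' 0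
    rwa [UCoord₀.ι_zero, one_mul, ZeroMemClass.coe_zero, zero_mul, add_zero] at h
  have hp0 : Λ p ≠ 0 := hΛ fun e => one_ne_zero (hpv.symm.trans (by rw [e, det_zero_left]))
  have hv0 := hΛ hv
  have hb : U.beta x = Λ p / Λ v := by
    rw [beta, h0, hπv, hC v hv]; field_simp
  refine ⟨?_, inv_ne_zero (mul_ne_zero hθ₀ ((map_ne_zero σ).2 hθ₀)), fun ζ => ?_⟩
  · have hd := hdet p v
    rw [hpv, OneMemClass.coe_one] at hd
    have hσv := (map_ne_zero σ).2 hv0
    have hσθ := (map_ne_zero σ).2 hθ₀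
    rw [hb, hπv, hC v hv, map_div₀, map_div₀]
    field_simp
    linear_combination -hd
  · have hne : Λ p + ζ * Λ v ≠ 0 := by
      rw [← hsmul, ← map_add]; exact hΛ (hpne ζ)
    rw [hA', hb, hπv, hC v hv]
    field_simp

theorem beta_ι_mul {x : G} (hx : x ∈ Q) (hc : (U.co x).c ≠ 0) (ζ : Fix σ) :
    U.beta (U.to₀.ι ζ * x) = U.beta x + ζ := by
  obtain ⟨n, hn'⟩ := U.exists_trace hS hn
  have h := (hn' x hx hc).2.2 ζ
  have hne : (U.co (fmap a t Q (U.to₀.ι ζ * x))).c ≠ 0 := left_ne_zero_of_mul (h ▸ hc)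
  rw [beta, ← U.π_eq (U.to₀.ι ζ * x), U.to₀.π_ι_mul ζ hx, U.π_eq, ← h]
  field_simp

theorem beta_fmap {x : G} (hx : x ∈ Q) (hc : (U.co x).c ≠ 0) :
    U.beta (fmap a t Q x) = (U.beta x)⁻¹ := by
  rw [beta, fmap_fmap hS hx (U.to₀.ne_one_of_π hc), beta, inv_div]

theorem beta_ne {x : G} (hx : x ∈ Q) (hc : (U.co x).c ≠ 0) : U.beta x ≠ 0 :=
  div_ne_zero hc (U.to₀.π_fmap_ne hS hn hx hc)

/-- The element `h` in `t x t = f x h t g` is a scalar. -/
theorem struct_eqs {x h g : G} (hx : x ∈ Q) (hc : (U.co x).c ≠ 0) (hh : h ∈ two G a t) (hg : g ∈ Q)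
    (e : t * x * t = fmap a t Q x * h * t * g) : ∃ u : Fˣ,
      (∀ z, (U.θ (simAut (q := q) u (RingEquiv.refl F) z) : G) = h * U.θ z * h⁻¹) ∧
      U.beta x * U.beta x * u = U.beta x + (nF σ (U.co x).c : F) ∧
      (U.co g).c * (U.beta x + (nF σ (U.co x).c : F)) = (U.co x).c ∧ U.beta g = (U.beta x)⁻¹ := by
  classical
  obtain ⟨u, τ, hτ, hsim⟩ := U.semilinear h hh
  obtain ⟨n, hn'⟩ := U.exists_trace hS hn
  obtain ⟨htr, hn0, hA⟩ := hn' x hx hc
  set c := (U.co x).c with hcdef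
  set β := U.beta x with hβ
  set E : F := (nF σ c : F) with hE
  have hx1 : x ≠ 1 := U.to₀.ne_one_of_π hc
  have hinv := (struct_inv hS hx hx1 hh hg e).1
  -- the element `g`
  have hxi : x⁻¹ = U.to₀.ι (nF σ c) * x := U.inv_eq_ι_mul hx
  have hgL : (U.co g).c * (β + E) = c := by
    have h1 := hA (nF σ c)
    rw [← hxi, hinv, U.co_inv hg, inv_c] at h1
    exact h1
  have hgc : (U.co g).c ≠ 0 := left_ne_zero_of_mul (hgL ▸ hc)
  have hL : β + E ≠ 0 := right_ne_zero_of_mul (hgL ▸ hc)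
  obtain ⟨-, -, hAg⟩ := hn' g hg hgc
  set γ := U.beta g with hγ
  have hβ0 : β ≠ 0 := U.beta_ne hS hn hx hc
  have hA0 : (U.co (fmap a t Q x)).c * β = c := by
    rw [hβ, beta]; exact mul_div_cancel₀ _ (U.to₀.π_fmap_ne hS hn hx hc)
  have key : ∀ r : Fix σ, r ≠ 0 →
      (u : F) * τ c * β * (β * r + 1) = c * τ (β + E) * (τ γ + τ r) := by
    intro r hr
    have hy1 : U.to₀.ι r ≠ 1 := U.to₀.ι_ne hr
    have hfy : fmap a t Q (U.to₀.ι r) = U.to₀.ι r⁻¹ := hn r hr
    have hxy : x * fmap a t Q (U.to₀.ι r) ≠ 1 := by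
      rw [hfy, ← U.to₀.ι_comm _ x hx]; exact U.to₀.mul_shift_ne hx hc
    obtain ⟨hgy, hcomp⟩ := composite hS hx hx1 hh hg e (U.to₀.ι_mem r) hy1 hxy
    rw [hfy, ← U.to₀.ι_comm _ x hx, ← U.to₀.ι_comm _ g hg] at hcomp
    have hfg := (fmap_spec hS (mul_mem (U.to₀.ι_mem r) hg) (U.to₀.mul_shift_ne hg hgc)).1
    have h1 := congrArg (fun y => (U.co y).c) hcomp
    rw [U.co_mul (fmap_spec hS hx hx1).1 (hS.conj_mem h hh.1 _ hfg), mul_c, U.co_conj hsim hfg] at h1
    change (U.co (fmap a t Q (U.to₀.ι r⁻¹ * x))).c = (U.co (fmap a t Q x)).c +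
      (u : F) * τ (U.co (fmap a t Q (U.to₀.ι r * g))).c at h1
    have h2 := hA r⁻¹
    have h3 := congrArg τ (hAg r)
    have h4 := congrArg τ hgL
    rw [map_mul] at h3 h4
    rw [map_add τ γ] at h3
    have hr' : (r : F) ≠ 0 := fun e => hr (Subtype.ext e)
    have h2' : (U.co (fmap a t Q (U.to₀.ι r⁻¹ * x))).c * (β * r + 1) = c * r := by
      generalize (U.co (fmap a t Q (U.to₀.ι r⁻¹ * x))).c = X at h2 ⊢
      rw [Subfield.coe_inv] at h2
      field_simp at h2
      linear_combination h2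
    set A1 := (U.co (fmap a t Q (U.to₀.ι r⁻¹ * x))).c
    set A0 := (U.co (fmap a t Q x)).c
    set B := τ (U.co (fmap a t Q (U.to₀.ι r * g))).c
    have h5 : (A1 + A0) * β * (β * r + 1) = c := by
      linear_combination β * h2' + (β * r + 1) * hA0 + c * β * (r : F) * two0 (F := F)
    have h6 : B * (τ γ + τ r) * τ (β + E) = τ c := by rw [h3, h4]
    have h7 : A1 + A0 = u * B := by linear_combination h1 + A0 * two0 (F := F)
    rw [h7] at h5
    linear_combination (τ (β + E) * (τ γ + τ r)) * h5 - ((u : F) * β * (β * r + 1)) * h6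
  have hfixτ : (u : F) * τ c * β * β = c * τ (β + E) ∧ ∀ s : Fix σ, τ (s : F) = s := by
    have hlin : ∀ s : Fix σ, (u : F) * τ c * β * β * s = c * τ (β + E) * τ s := by
      intro s
      by_cases hs : s = 0
      · rw [hs, ZeroMemClass.coe_zero, map_zero, mul_zero, mul_zero]
      obtain ⟨r, hr0, hrs⟩ : ∃ r : Fix σ, r ≠ 0 ∧ r ≠ s := by
        obtain ⟨x₀, h0, h1⟩ := U.to₀.exists_fix U.four_le
        by_cases hs1 : s = 1
        · exact ⟨x₀, h0, hs1 ▸ h1⟩
        · exact ⟨1, one_ne_zero, Ne.symm hs1⟩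
      have h1 := key r hr0
      have h2 := key (r + s) fun e => hrs (by linear_combination e - s * two_fix (σ := σ))
      rw [Subfield.coe_add, map_add τ (r : F)] at h2
      linear_combination h2 - h1
    have h1 := hlin 1
    rw [OneMemClass.coe_one, map_one, mul_one, mul_one] at h1
    refine ⟨h1, fun s => ?_⟩
    have h2 := hlin s
    rw [h1] at h2
    exact (mul_left_cancel₀ (mul_ne_zero hc (τ.map_ne_zero_iff.2 hL)) h2).symm
  have hτ1 : τ = RingEquiv.refl F := by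
    have hroot : ∀ y : F, τ y = y ∨ τ y = σ y := fun y => by
      have hT : σ (y + σ y) = y + σ y := add_c_fixed y
      have hN : σ (y * σ y) = y * σ y := hσ.out.norm_fixed y
      have e1 := hfixτ.2 ⟨y + σ y, hT⟩
      have e2 := hfixτ.2 ⟨y * σ y, hN⟩
      change τ (y + σ y) = y + σ y at e1
      change τ (y * σ y) = y * σ y at e2
      rw [map_add] at e1
      rw [map_mul] at e2
      have h0 : (τ y - y) * (τ y - σ y) = 0 := by linear_combination (τ y) * e1 - e2
      rcases mul_eq_zero.1 h0 with h | h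
      · exact Or.inl (sub_eq_zero.1 h)
      · exact Or.inr (sub_eq_zero.1 h)
    have h2 : τ ^ 2 = 1 := RingEquiv.ext fun y => by
      rw [pow_two, RingAut.mul_apply, RingAut.one_apply]
      rcases hroot y with h | h
      · rw [h, h]
      · rw [h, ← comm_frob (σ := σ) (q := q), h, hσ.out.invol]
    exact orderOf_eq_one_iff.1 (Nat.eq_one_of_dvd_coprimes ((Nat.coprime_two_right.2 hτ))
      dvd_rfl (orderOf_dvd_of_pow_eq_one h2))
  subst hτ1
  have h1 : (u : F) * c * β * β = c * (β + E) := hfixτ.1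
  have hu : β * β * (u : F) = β + E := mul_left_cancel₀ hc (by linear_combination h1)
  refine ⟨u, hsim, hu, hgL, ?_⟩
  have h2 : (u : F) * c * β * (β * ((1 : Fix σ) : F) + 1) = c * (β + E) * (γ + ((1 : Fix σ) : F)) :=
    key 1 one_ne_zero
  rw [OneMemClass.coe_one] at h2
  have h3 : c * (β + E) * (γ * β) = c * (β + E) * 1 := by
    linear_combination -β * h2 + (c * (β + 1)) * hu
  exact eq_inv_of_mul_eq_one_left (mul_left_cancel₀ (mul_ne_zero hc hL) h3)

theorem scalar_t {d : G} (hd : d ∈ two G a t) {u : Fˣ}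
    (hsim : ∀ z, (U.θ (simAut (q := q) u (RingEquiv.refl F) z) : G) = d * U.θ z * d⁻¹) {y : G} (hy : y ∈ Q) :
    (U.co (t * d * t * y * (t * d * t)⁻¹)).c = (σ (u : F))⁻¹ * (U.co y).c := by
  have h := U.to₀.conj_t_semilinear hS hn (u := (u : F)) (τ := RingEquiv.refl F)
    (ν := nF σ (u : F)) (τ' := restrictFix (q := q) (RingEquiv.refl F)) hd
    (fun x hx => congrArg Heis.c (U.co_conj hsim hx)) (U.conj_cent hsim) y hy
  refine h.trans ?_
  show ((u : F) * σ (u : F))⁻¹ * ((u : F) * (U.co y).c) = _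
  rw [mul_inv, mul_comm (u : F)⁻¹, mul_assoc, inv_mul_cancel_left₀ u.ne_zero]

theorem trace_beta {x : G} (hx : x ∈ Q) (hc : (U.co x).c ≠ 0) :
    σ (U.beta x) = U.beta x + (nF σ (U.co x).c : F) := by
  obtain ⟨n, hn'⟩ := U.exists_trace hS hn
  obtain ⟨htr, hn0, -⟩ := hn' x hx hc
  have hx1 : x ≠ 1 := U.to₀.ne_one_of_π hc
  obtain ⟨h, hh, g, hg, e⟩ := exists_struct hS hx hx1
  obtain ⟨e1, e2⟩ := struct_inv hS hx hx1 hh hg e
  obtain ⟨u, hsim, hu, -, -⟩ := U.struct_eqs hS hn hx hc hh hg e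
  have hci : (U.co x⁻¹).c ≠ 0 := by rwa [U.co_inv hx, inv_c]
  obtain ⟨u', hsim', hu', -, -⟩ := U.struct_eqs hS hn (inv_mem hx) hci (conj_t_mem' hS (inv_mem hh))
    (inv_mem (fmap_spec hS hx hx1).1) e2
  have hb' : U.beta x⁻¹ = U.beta x + (nF σ (U.co x).c : F) := by
    rw [U.inv_eq_ι_mul hx, U.beta_ι_mul hS hn hx hc]
  rw [hb', U.co_inv hx, inv_c] at hu'
  -- the scalar of `t h⁻¹ t`
  have hu'' : (u' : F) = σ u := by
    set y := t * h⁻¹ * t * x * (t * h⁻¹ * t)⁻¹ with hy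
    have hyQ : y ∈ Q := hS.conj_mem _ (conj_t_mem' hS (inv_mem hh)).1 x hx
    have h1 : (U.co y).c = (u' : F) * (U.co x).c := congrArg Heis.c (U.co_conj hsim' hx)
    have h2 := U.scalar_t hS hn hh hsim hyQ
    have hc' : t * h * t * (t * h⁻¹ * t) = 1 := by
      calc t * h * t * (t * h⁻¹ * t) = t * h * (t * t) * h⁻¹ * t := by group
        _ = 1 := by rw [hS.mul_self]; simp [hS.mul_self]
    rw [show t * h * t * y * (t * h * t)⁻¹ = (t * h * t * (t * h⁻¹ * t)) * x * (t * h * t * (t * h⁻¹ * t))⁻¹ by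
      rw [hy]; group, hc', one_mul, inv_one, mul_one, h1] at h2
    have hσu : σ (u : F) ≠ 0 := (map_ne_zero σ).2 u.ne_zero
    field_simp at h2
    linear_combination -h2
  rw [hu''] at hu'
  set β := U.beta x
  set c := (U.co x).c
  set E : F := (nF σ c : F)
  have hE : σ E = E := fix_apply _
  have hE0 : E ≠ 0 := mul_ne_zero hc ((map_ne_zero σ).2 hc)
  have hσ' := congrArg σ hu
  simp only [map_mul, map_add, hE] at hσ'
  obtain ⟨s, hs⟩ : ∃ s, σ β = β + s := ⟨σ β + β, by linear_combination -β * two0 (F := F)⟩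
  rw [hs] at hσ'
  have hd : (s + E) * (β * β + (s + E) * β + E * E) = 0 := by
    linear_combination (β + s) * (β + s) * hu' - (β + E) * (β + E) * hσ' +
      (2 * (s * E * β) + β * β * s + β * s * s + s * s * E - β * E * E) * two0 (F := F)
  rcases mul_eq_zero.1 hd with h0 | h0
  · rw [hs]; linear_combination h0 - E * two0 (F := F)
  exfalso
  have hsfix : σ s = s := by
    have h1 := congrArg σ hs
    rw [hσ.out.invol, map_add, hs] at h1
    linear_combination -h1 - s * two0 (F := F)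
  have h1 := congrArg σ h0
  simp only [map_add, map_mul, map_zero, hE, hsfix, hs] at h1
  have h2 : s * E = 0 := by
    linear_combination h1 - h0 - (s * β + s * s) * two0 (F := F)
  rcases mul_eq_zero.1 h2 with h3 | h3
  · have htr' : (n : F) * E = 0 := by
      show n * ((U.co x).c * σ (U.co x).c) = 0
      rw [← htr, hs, h3, add_zero, add_self]
    exact mul_ne_zero hn0 hE0 htr'
  · exact hE0 h3

open _root_.Classical in
/-- The difference between `b` and `β`. -/
noncomputable def defect (c : F) : F :=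
  if c = 0 then 0 else
    (exists_elt (σ := σ) c).choose.b + U.beta (U.θ (exists_elt (σ := σ) c).choose : G)

theorem defect_eq {x : G} (hx : x ∈ Q) (hc : (U.co x).c ≠ 0) :
    (U.co x).b + U.beta x = U.defect (U.co x).c := by
  rw [defect, if_neg hc]
  set g := (exists_elt (σ := σ) (U.co x).c).choose
  have hg : g.c = (U.co x).c := (exists_elt (σ := σ) (U.co x).c).choose_spec
  obtain ⟨z, hz⟩ := U.to₀.exists_shift (U.θ g).2 hx (by rw [π_eq, π_eq, co_θ, hg])
  rw [hz, U.b_ι_mul z (U.θ g).2, U.beta_ι_mul hS hn (U.θ g).2 (by rw [co_θ, hg]; exact hc), co_θ]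
  linear_combination (z : F) * two0 (F := F)

theorem exists_of_c (c : F) : ∃ x ∈ Q, (U.co x).c = c := U.to₀.π_surj c

theorem defect_smul {d : G} (hd : d ∈ two G a t) {u : Fˣ}
    (hsim : ∀ z, (U.θ (simAut (q := q) u (RingEquiv.refl F) z) : G) = d * U.θ z * d⁻¹) (c : F) :
    U.defect ((u : F) * c) = (u : F) * σ (u : F) * U.defect c := by
  rcases eq_or_ne c 0 with rfl | hc
  · rw [mul_zero, defect, if_pos rfl, mul_zero]
  obtain ⟨x, hx, rfl⟩ := U.exists_of_c hS hn c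
  have hdx : d * x * d⁻¹ ∈ Q := hS.conj_mem d hd.1 x hx
  have hco := U.co_conj hsim hx
  have hc' : (U.co (d * x * d⁻¹)).c = (u : F) * (U.co x).c := by rw [hco]; rfl
  have hx1 : x ≠ 1 := U.to₀.ne_one_of_π hc
  rw [← hc', ← U.defect_eq hS hn hdx (by rw [hc']; exact mul_ne_zero u.ne_zero hc),
    ← U.defect_eq hS hn hx hc]
  have hb : (U.co (d * x * d⁻¹)).b = (u : F) * σ (u : F) * (U.co x).b := by rw [hco]; rfl
  have hA : (U.co (fmap a t Q (d * x * d⁻¹))).c = (σ (u : F))⁻¹ * (U.co (fmap a t Q x)).c := by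
    rw [fmap_equiv hS hd hx hx1]; exact U.scalar_t hS hn hd hsim (fmap_spec hS hx hx1).1
  have hne : (U.co (fmap a t Q x)).c ≠ 0 := U.to₀.π_fmap_ne hS hn hx hc
  rw [beta, beta, hc', hA, hb]
  field_simp

theorem b_fmap {x : G} (hx : x ∈ Q) (hc : (U.co x).c ≠ 0) :
    (U.co (fmap a t Q x)).b = (U.beta x)⁻¹ + U.defect (U.co (fmap a t Q x)).c := by
  rw [← U.defect_eq hS hn (fmap_spec hS hx (U.to₀.ne_one_of_π hc)).1 (U.to₀.π_fmap_ne hS hn hx hc),
    U.beta_fmap hS hn hx hc]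
  linear_combination -((U.beta x)⁻¹) * two0 (F := F)

/-- The defect is additive on the two ends of a translation. -/
theorem defect_add {x : G} (hx : x ∈ Q) (hc : (U.co x).c ≠ 0) {r : Fix σ} (hr : r ≠ 0) :
    U.defect (U.co (fmap a t Q (U.to₀.ι r⁻¹ * x))).c = U.defect (U.co (fmap a t Q x)).c +
      U.defect ((U.co (fmap a t Q (U.to₀.ι r⁻¹ * x))).c + (U.co (fmap a t Q x)).c) := by
  obtain ⟨n, hn'⟩ := U.exists_trace hS hn
  have hx1 : x ≠ 1 := U.to₀.ne_one_of_π hc
  obtain ⟨h, hh, g, hg, e⟩ := exists_struct hS hx hx1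
  obtain ⟨u, hsim, hu, hgL, hγ⟩ := U.struct_eqs hS hn hx hc hh hg e
  have htr := U.trace_beta hS hn hx hc
  have hgc : (U.co g).c ≠ 0 := left_ne_zero_of_mul (hgL ▸ hc)
  have hfy : fmap a t Q (U.to₀.ι r) = U.to₀.ι r⁻¹ := hn r hr
  have hxy : x * fmap a t Q (U.to₀.ι r) ≠ 1 := by
    rw [hfy, ← U.to₀.ι_comm _ x hx]; exact U.to₀.mul_shift_ne hx hc
  obtain ⟨-, hcomp⟩ := composite hS hx hx1 hh hg e (U.to₀.ι_mem r) (U.to₀.ι_ne hr) hxy
  rw [hfy, ← U.to₀.ι_comm _ x hx, ← U.to₀.ι_comm _ g hg] at hcomp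
  have hrg : U.to₀.ι r * g ∈ Q := mul_mem (U.to₀.ι_mem r) hg
  have hrgc : (U.co (U.to₀.ι r * g)).c = (U.co g).c := U.to₀.π_ι_mul r hg
  have hfg := (fmap_spec hS hrg (U.to₀.mul_shift_ne hg hgc)).1
  have hx' : U.to₀.ι r⁻¹ * x ∈ Q := mul_mem (U.to₀.ι_mem _) hx
  have hxc' : (U.co (U.to₀.ι r⁻¹ * x)).c = (U.co x).c := U.to₀.π_ι_mul _ hx
  have hco := congrArg U.co hcomp
  rw [U.co_mul (fmap_spec hS hx hx1).1 (hS.conj_mem h hh.1 _ hfg), U.co_conj hsim hfg] at hco
  have hb := congrArg Heis.b hco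
  have hA := congrArg Heis.c hco
  change (U.co (fmap a t Q (U.to₀.ι r⁻¹ * x))).c = (U.co (fmap a t Q x)).c +
    (u : F) * (U.co (fmap a t Q (U.to₀.ι r * g))).c at hA
  change (U.co (fmap a t Q (U.to₀.ι r⁻¹ * x))).b = (U.co (fmap a t Q x)).b +
    (u : F) * σ (u : F) * (U.co (fmap a t Q (U.to₀.ι r * g))).b +
    σ (U.co (fmap a t Q x)).c * ((u : F) * (U.co (fmap a t Q (U.to₀.ι r * g))).c) at hb
  rw [U.b_fmap hS hn hx' (by rwa [hxc']), U.b_fmap hS hn hx hc, U.b_fmap hS hn hrg (by rwa [hrgc]),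
    U.beta_ι_mul hS hn hx hc, U.beta_ι_mul hS hn hg hgc, hγ] at hb
  have hA0 : (U.co (fmap a t Q x)).c * U.beta x = (U.co x).c := by
    rw [beta]; exact mul_div_cancel₀ _ (U.to₀.π_fmap_ne hS hn hx hc)
  have hAg := (hn' g hg hgc).2.2 r
  rw [hγ] at hAg
  have hβ0 := U.beta_ne hS hn hx hc
  have hd1 : U.beta x + ((r⁻¹ : Fix σ) : F) ≠ 0 :=
    right_ne_zero_of_mul (((hn' x hx hc).2.2 r⁻¹).symm ▸ hc)
  have hd2 : (U.beta x)⁻¹ + (r : F) ≠ 0 := right_ne_zero_of_mul (hAg.symm ▸ hgc)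
  set β := U.beta x with hβdef
  set A0 := (U.co (fmap a t Q x)).c
  set A1 := (U.co (fmap a t Q (U.to₀.ι r⁻¹ * x))).c
  set B := (U.co (fmap a t Q (U.to₀.ι r * g))).c
  have e3 : (u : F) * σ (u : F) * U.defect B = U.defect (A1 + A0) := by
    rw [← U.defect_smul hS hn hh hsim B]
    congr 1
    linear_combination -hA - A0 * two0 (F := F)
  -- the inverse parts cancel
  have hr' : (r : F) ≠ 0 := fun e => hr (Subtype.ext e)
  set E : F := (nF σ (U.co x).c : F) with hEdef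
  have hEσ : σ E = E := fix_apply _
  have hσβ : σ β ≠ 0 := (map_ne_zero σ).2 hβ0
  have hσu : β * σ β * ((u : F) * σ (u : F)) = 1 := by
    have h1 := congrArg σ hu
    simp only [map_mul, map_add, hEσ, htr] at h1
    rw [htr] at hσβ ⊢
    refine mul_left_cancel₀ (mul_ne_zero hβ0 hσβ) ?_
    linear_combination (β + E) * (β + E) * σ (u : F) * hu + (β + E) * h1 +
      (β + E) * E * two0 (F := F)
  have hcore : (β + ((r⁻¹ : Fix σ) : F))⁻¹ = β⁻¹ +
      (u : F) * σ (u : F) * (β⁻¹ + (r : F))⁻¹ + σ A0 * ((u : F) * B) := by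
    have hA0' : A0 = (U.co x).c / β := by rw [← hA0, mul_div_cancel_right₀ _ hβ0]
    have hNu : (u : F) * σ (u : F) = 1 / (β * (β + E)) := by
      rw [← htr, eq_div_iff (mul_ne_zero hβ0 hσβ)]; linear_combination hσu
    have hβE : β + E ≠ 0 := htr ▸ hσβ
    have hk : 1 + β * (r : F) ≠ 0 := fun e => hd2 (by
      field_simp; linear_combination e)
    have hk' : (u : F) * B = (U.co x).c / (β * (1 + β * r)) := by
      rw [eq_div_iff (mul_ne_zero hβ0 hk)]
      have h1 : B * (1 + β * r) = (U.co g).c * β := by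
        rw [← hAg]; field_simp
      calc (u : F) * B * (β * (1 + β * r)) = (U.co g).c * (β * β * u) := by
            linear_combination (u : F) * β * h1
        _ = (U.co x).c := by rw [hu, hgL]
    rw [hk', hA0', hNu, map_div₀, htr, Subfield.coe_inv]
    have hk2 : β * (r : F) + 1 ≠ 0 := by rwa [add_comm]
    field_simp
    rw [hEdef, nF]
    ring_nf
    linear_combination -(β + β * r * ((U.co x).c * σ (U.co x).c) + β * β * r + (U.co x).c * σ (U.co x).c) *
      two0 (F := F)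
  linear_combination hb - hcore + e3

/-- The defect vanishes. -/
theorem defect_eq_zero (c : F) : U.defect c = 0 := by
  rcases eq_or_ne c 0 with rfl | hc
  · rw [defect, if_pos rfl]
  obtain ⟨w, hw, -, e, he, hsim⟩ := U.rotation
  have hε0 : U.ε ≠ 0 := left_ne_zero_of_mul_eq_one U.ε_norm
  have h2 := two0 (F := F)
  have hε1 : 1 + U.ε ≠ 0 := fun e0 => U.ε_ne (by linear_combination e0 - h2)
  set p := c / (1 + U.ε) with hp
  have hp0 : p ≠ 0 := div_ne_zero hc hε1
  set p' := U.ε * p with hp'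
  have hp'0 : p' ≠ 0 := mul_ne_zero hε0 hp0
  clear_value p' p
  have hεσ : σ U.ε ≠ U.ε := fun e0 => U.ε_ne (by
    have h := U.ε_norm
    rw [e0] at h
    exact CharTwo.sq_inj.1 (by rw [one_pow, pow_two]; exact h))
  -- an element with these two ends
  set η := p⁻¹ + p'⁻¹ with hη
  set m := (p * σ p')⁻¹ + (σ p * p')⁻¹ with hm
  have hm' : σ m = m := by
    rw [hm]; simp only [map_add, map_inv₀, map_mul, hσ.out.invol]; ring
  have hσp : σ p ≠ 0 := (map_ne_zero σ).2 hp0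
  have hσp' : σ p' ≠ 0 := (map_ne_zero σ).2 hp'0
  have hm0 : m ≠ 0 := fun e0 => by
    rw [hm, CharTwo.add_eq_zero, inv_inj, hp', map_mul] at e0
    exact hεσ (mul_left_cancel₀ (mul_ne_zero hp0 hσp) (by linear_combination e0))
  have hη0 : η ≠ 0 := fun e0 => U.ε_ne (by
    rw [hη, CharTwo.add_eq_zero, inv_inj, hp'] at e0
    exact (mul_eq_right₀ hp0).1 e0.symm)
  set x₀ := m / η with hx₀
  have hx₀0 : x₀ ≠ 0 := div_ne_zero hm0 hη0
  obtain ⟨z, hz, hzc⟩ := U.exists_of_c hS hn x₀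
  have hzc0 : (U.co z).c ≠ 0 := by rwa [hzc]
  have htr := U.trace_beta hS hn hz hzc0
  have key : σ η / p + η / σ p = m := by
    rw [hη, hm, map_add, map_inv₀, map_inv₀]
    linear_combination (p⁻¹ * (σ p)⁻¹) * h2
  have hση : σ η ≠ 0 := (map_ne_zero σ).2 hη0
  clear_value η m
  have hsum : x₀ / p + σ (x₀ / p) = x₀ * σ x₀ := by
    rw [map_div₀, hx₀, map_div₀, hm']
    have h3 : m / η / p + m / σ η / σ p = m / η * (σ η / p + η / σ p) / σ η := by field_simp
    rw [h3, key]; ring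
  clear_value x₀
  have hfix : σ (U.beta z + x₀ / p) = U.beta z + x₀ / p := by
    rw [map_add, htr]
    show U.beta z + (U.co z).c * σ (U.co z).c + σ (x₀ / p) = _
    rw [hzc, ← hsum]
    linear_combination σ (x₀ / p) * h2
  set x := U.to₀.ι ⟨U.beta z + x₀ / p, hfix⟩ * z with hxdef
  have hxQ : x ∈ Q := mul_mem (U.to₀.ι_mem _) hz
  have hxc : (U.co x).c = x₀ := (U.to₀.π_ι_mul _ hz).trans hzc
  have hxc0 : (U.co x).c ≠ 0 := by rwa [hxc]
  have hxb : U.beta x = x₀ / p := by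
    rw [hxdef, U.beta_ι_mul hS hn hz hzc0]
    linear_combination U.beta z * h2
  have hA0 : (U.co (fmap a t Q x)).c = p := by
    have h := hxb
    rw [beta, hxc] at h
    have := U.to₀.π_fmap_ne hS hn hxQ hxc0
    rw [π_eq] at this
    field_simp at h
    linear_combination -h
  set ζ : Fix σ := ⟨m, hm'⟩ with hζ
  have hζ0 : ζ⁻¹ ≠ 0 := inv_ne_zero fun e0 => hm0 (congrArg Subtype.val e0)
  have hA1 : (U.co (fmap a t Q (U.to₀.ι ζ * x))).c = p' := by
    obtain ⟨n, hn'⟩ := U.exists_trace hS hn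
    have h := (hn' x hxQ hxc0).2.2 ζ
    rw [hxb, hxc] at h
    have hsum' : x₀ / p + m = x₀ / p' := by
      have hm2 : m = x₀ * η := by rw [hx₀, div_mul_cancel₀ _ hη0]
      rw [hm2, hη]
      linear_combination (x₀ / p) * h2
    rw [show ((ζ : Fix σ) : F) = m from rfl, hsum'] at h
    field_simp at h
    linear_combination h
  have h := U.defect_add hS hn hxQ hxc0 hζ0
  rw [inv_inv, hA0, hA1] at h
  have heq : U.defect p' = U.defect p := by
    rw [hp', ← he, U.defect_smul hS hn hw hsim, he, U.ε_norm, one_mul]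
  rw [heq] at h
  have hc' : p' + p = c := by rw [hp', hp]; field_simp; ring
  rw [hc'] at h
  linear_combination -h

theorem isStandard_of_normalised : IsStandard a t U.θ := by
  intro g hg
  have hx : (U.θ g : G) ∈ Q := (U.θ g).2
  have hx1 : (U.θ g : G) ≠ 1 := fun e => hg (U.θ.injective (Subtype.ext (by rw [e, map_one]; rfl)))
  suffices key : U.co (fmap a t Q (U.θ g : G)) = flip g by
    rw [← key, U.θ_co (fmap_spec hS hx hx1).1]
    exact (fmap_spec hS hx hx1).2.symm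
  by_cases hc : g.c = 0
  · have hz : σ g.b = g.b := fixed_of_c_eq_zero hc
    have hg' : g = cent g.b hz := Heis.ext hc rfl
    have hb : (⟨g.b, hz⟩ : Fix σ) ≠ 0 := fun e =>
      hg (eq_one_of_b (congrArg Subtype.val e : g.b = 0))
    have h := hn ⟨g.b, hz⟩ hb
    change fmap a t Q (U.θ (cent g.b hz) : G) = _ at h
    rw [← hg'] at h
    rw [h, U.co_ι]
    exact Heis.ext (by rw [flip_c, hc, zero_div]; rfl) rfl
  · have hc' : (U.co (U.θ g : G)).c ≠ 0 := by rwa [co_θ]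
    have hβ : U.beta (U.θ g : G) = g.b := by
      have h := U.defect_eq hS hn hx hc'
      rw [U.defect_eq_zero hS hn, co_θ] at h
      linear_combination h - g.b * two0 (F := F)
    refine Heis.ext ?_ ?_
    · rw [flip_c]
      have hne := U.to₀.π_fmap_ne hS hn hx hc'
      rw [π_eq] at hne
      rw [← hβ, beta, co_θ]
      field_simp
    · rw [U.b_fmap hS hn hx hc', U.defect_eq_zero hS hn, hβ, add_zero, flip_b]

end UCoord

/-- Some coordinates make the action standard. -/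
theorem exists_standard [hσ : Fact (IsConjugation σ)] [hq : Fact (Fintype.card F = q ^ 2 ∧ ∀ x, σ x = x ^ q)]
    (hS : IsRankOneSetup G Ω a t Q) [FaithfulSMul G Ω] [Finite G] (U : UCoord a t Q F σ q) :
    ∃ U' : UCoord a t Q F σ q, IsStandard a t U'.θ := by
  obtain ⟨U', h⟩ := U.exists_normalised hS
  exact ⟨U', U'.isStandard_of_normalised hS h⟩

end CfsgLib.RankOne.UnitaryUnique
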