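import Cfsg.Agent.Lib.RankOne.UnitaryUnique.Basics
import Cfsg.Agent.Lib.RankOne.UnitaryAut
import Cfsg.Agent.Lib.RankOne.Basic

/-!
# Coordinates on the regular normal subgroup in the unitary case

`UCoord₀`: the central quotient of `Q` is the field with `q²` elements, the involutions with `1` form the fixed
field, `K` acts by scalars through a multiplier, some element centralising `t` is a non-trivial rotation, and the
two-point stabiliser acts semilinearly.  `UCoord`: the same with the Heisenberg group and trivial multiplier.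
-/

set_option autoImplicit false
set_option linter.unusedSectionVars false

namespace CfsgLib.RankOne.UnitaryUnique

open CfsgLib.Classical CfsgLib.RankOne.UnitarySylow Cfsg

universe u v

variable {G : Type u} {Ω : Type v} [Group G] [MulAction G Ω]

/-- Coordinates before the multiplier is known to be additive. -/
structure UCoord₀ (a : Ω) (t : G) (Q : Subgroup G) (F : Type) [Field F] [Fintype F] [CharP F 2] (σ : F →+* F)
    (q : ℕ) where
  /-- the coordinate on the central quotient -/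
  π : G → F
  /-- the centre -/
  ι : Fix σ → G
  /-- the multiplier -/
  φ : Fix σ →*₀ Fix σ
  /-- the rotation -/
  ε : F
  conj : IsConjugation σ
  card_field : Fintype.card F = q ^ 2 ∧ ∀ x, σ x = x ^ q
  four_le : 4 ≤ q
  π_mul : ∀ x ∈ Q, ∀ y ∈ Q, π (x * y) = π x + π y
  π_surj : ∀ c : F, ∃ x ∈ Q, π x = c
  π_eq_zero : ∀ x ∈ Q, π x = 0 ↔ ∃ z, ι z = x
  π_invol : ∀ x ∈ Q, x * x = 1 → π x = 0
  ι_mem : ∀ z, ι z ∈ Q
  ι_add : ∀ z z', ι (z + z') = ι z * ι z'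
  ι_inj : Function.Injective ι
  ι_comm : ∀ z, ∀ x ∈ Q, ι z * x = x * ι z
  φ_inj : Function.Injective φ
  semilinear : ∀ d ∈ two G a t, ∃ (u : F) (τ : F ≃+* F) (ν : Fix σ) (τ' : Fix σ ≃+* Fix σ),
    u ≠ 0 ∧ Odd (orderOf τ) ∧ (∀ x ∈ Q, π (d * x * d⁻¹) = u * τ (π x)) ∧
      ∀ z, d * ι z * d⁻¹ = ι (ν * τ' z)
  scalar : ∀ l : Fix σ, l ≠ 0 → ∃ k ∈ invertedBy (two G a t) t,
    (∀ x ∈ Q, π (k * x * k⁻¹) = (φ l : F) * π x) ∧ ∀ z, k * ι z * k⁻¹ = ι (l * l * z)
  rotation : ∃ w ∈ two G a t, t * w * t⁻¹ = w ∧ (∀ x ∈ Q, π (w * x * w⁻¹) = ε * π x) ∧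
    ∀ z, w * ι z * w⁻¹ = ι z
  ε_norm : ε * σ ε = 1
  ε_ne : ε ≠ 1

/-- Coordinates with the Heisenberg group. -/
structure UCoord (a : Ω) (t : G) (Q : Subgroup G) (F : Type) [Field F] [Fintype F] [CharP F 2] (σ : F →+* F)
    (q : ℕ) [hσ : Fact (IsConjugation σ)] [hq : Fact (Fintype.card F = q ^ 2 ∧ ∀ x, σ x = x ^ q)] where
  /-- the coordinates -/
  θ : Heis σ ≃* Q
  /-- the rotation -/
  ε : F
  four_le : 4 ≤ q
  semilinear : ∀ d ∈ two G a t, ∃ (u : Fˣ) (τ : F ≃+* F), Odd (orderOf τ) ∧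
    ∀ g, (θ (simAut (q := q) u τ g) : G) = d * θ g * d⁻¹
  scalar : ∀ l : Fˣ, σ l = l → ∃ k ∈ invertedBy (two G a t) t,
    ∀ g, (θ (simAut (q := q) l (RingEquiv.refl F) g) : G) = k * θ g * k⁻¹
  rotation : ∃ w ∈ two G a t, t * w * t⁻¹ = w ∧ ∃ e : Fˣ, (e : F) = ε ∧
    ∀ g, (θ (simAut (q := q) e (RingEquiv.refl F) g) : G) = w * θ g * w⁻¹
  ε_norm : ε * σ ε = 1
  ε_ne : ε ≠ 1

end CfsgLib.RankOne.UnitaryUnique
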