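import Cfsg.Agent.Lib.RankOne.UnitarySylow

/-!
# The plane over the fixed field: determinant, lines, and small finite lemmas
-/

set_option autoImplicit false
set_option linter.style.haveILetI false
set_option linter.unusedSectionVars false

namespace CfsgLib.RankOne.UnitaryUnique

open CfsgLib.Classical

variable {F : Type*} [Field F] [CharP F 2] {σ : F →+* F}

/-- The fixed field. -/
abbrev Fix (σ : F →+* F) := σ.eqLocusField (RingHom.id F)

theorem fix_apply (x : Fix σ) : σ (x : F) = (x : F) := x.2

theorem two_fix : (2 : Fix σ) = 0 := Subtype.ext (by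
  show ((2 : Fix σ) : F) = 0
  rw [show ((2 : Fix σ) : F) = 2 from map_ofNat (Fix σ).subtype 2]
  exact CharTwo.two_eq_zero)

theorem add_self_fix (x : Fix σ) : x + x = 0 := by linear_combination x * two_fix (σ := σ)

/-- The determinant. -/
def det (v w : Fix σ × Fix σ) : Fix σ := v.1 * w.2 + v.2 * w.1

theorem det_comm (v w : Fix σ × Fix σ) : det v w = det w v := by unfold det; ring

theorem det_self (v : Fix σ × Fix σ) : det v v = 0 := by
  unfold det; linear_combination (v.1 * v.2) * two_fix (σ := σ)

theorem det_add_left (u v w : Fix σ × Fix σ) : det (u + v) w = det u w + det v w := by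
  simp only [det, Prod.fst_add, Prod.snd_add]; ring

theorem det_add_right (u v w : Fix σ × Fix σ) : det u (v + w) = det u v + det u w := by
  simp only [det, Prod.fst_add, Prod.snd_add]; ring

theorem det_smul_left (a : Fix σ) (v w : Fix σ × Fix σ) : det (a • v) w = a * det v w := by
  simp only [det, Prod.smul_fst, Prod.smul_snd, smul_eq_mul]; ring

theorem det_smul_right (a : Fix σ) (v w : Fix σ × Fix σ) : det v (a • w) = a * det v w := by
  simp only [det, Prod.smul_fst, Prod.smul_snd, smul_eq_mul]; ring

theorem det_zero_right (v : Fix σ × Fix σ) : det v 0 = 0 := by simp [det]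

theorem det_zero_left (v : Fix σ × Fix σ) : det 0 v = 0 := by simp [det]

theorem exists_det_one {v : Fix σ × Fix σ} (hv : v ≠ 0) : ∃ p, det p v = 1 := by
  by_cases h : v.2 = 0
  · have h1 : v.1 ≠ 0 := fun e => hv (Prod.ext e h)
    exact ⟨(0, v.1⁻¹), by simp [det, h1]⟩
  · exact ⟨(v.2⁻¹, 0), by simp [det, h]⟩

/-- Two points with determinant one against `v` differ by a multiple of `v`. -/
theorem line_param {p p' v : Fix σ × Fix σ} (h : det p v = 1) (h' : det p' v = 1) :
    p' = p + det p p' • v := by
  simp only [det] at h h'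
  refine Prod.ext ?_ ?_ <;> simp only [det, Prod.fst_add, Prod.snd_add, Prod.smul_fst, Prod.smul_snd, smul_eq_mul]
  · linear_combination (-p'.1) * h + p.1 * h' - (p.1 * v.1 * p'.2) * two_fix (σ := σ)
  · linear_combination (-p'.2) * h + p.2 * h' - (p.2 * v.2 * p'.1) * two_fix (σ := σ)

theorem det_line (p v : Fix σ × Fix σ) (s : Fix σ) : det (p + s • v) v = det p v := by
  rw [det_add_left, det_smul_left, det_self, mul_zero, add_zero]

theorem line_inj {p v : Fix σ × Fix σ} (hv : v ≠ 0) {s s' : Fix σ} (h : p + s • v = p + s' • v) : s = s' :=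
  smul_left_injective (Fix σ) hv (add_left_cancel h)

/-- Two independent linear conditions determine a vector. -/
theorem eq_zero_of_det {v w q : Fix σ × Fix σ} (hwq : det w q ≠ 0) (hw : det v w = 0) (hq : det v q = 0) :
    v = 0 := by
  simp only [det] at hw hq hwq
  refine Prod.ext ?_ ?_
  · refine (mul_eq_zero.1 (?_ : v.1 * (w.1 * q.2 + w.2 * q.1) = 0)).resolve_right hwq
    linear_combination w.1 * hq + q.1 * hw - (v.2 * w.1 * q.1) * two_fix (σ := σ)
  · refine (mul_eq_zero.1 (?_ : v.2 * (w.1 * q.2 + w.2 * q.1) = 0)).resolve_right hwq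
    linear_combination w.2 * hq + q.2 * hw - (v.1 * w.2 * q.2) * two_fix (σ := σ)

theorem eq_of_add_eq_zero {v w : Fix σ × Fix σ} (h : v + w = 0) : v = w := by
  refine Prod.ext ?_ ?_
  · have h1 : v.1 + w.1 = 0 := congrArg Prod.fst h
    linear_combination h1 - w.1 * two_fix (σ := σ)
  · have h1 : v.2 + w.2 = 0 := congrArg Prod.snd h
    linear_combination h1 - w.2 * two_fix (σ := σ)

/-- Cramer. -/
theorem basis_decomp {u w : Fix σ × Fix σ} (h : det u w = 1) (v : Fix σ × Fix σ) :
    v = det u v • w + det v w • u := by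
  simp only [det] at h
  refine Prod.ext ?_ ?_ <;> simp only [det, Prod.fst_add, Prod.snd_add, Prod.smul_fst, Prod.smul_snd, smul_eq_mul]
  · linear_combination (-v.1) * h - (u.1 * v.2 * w.1) * two_fix (σ := σ)
  · linear_combination (-v.2) * h - (u.2 * v.1 * w.2) * two_fix (σ := σ)

/-- A finite set fixed by a multiplication has cardinality killing the multiplier. -/
theorem pow_card_eq_one_of_invariant [DecidableEq F] {T : Finset F} {μ : F} (h0 : (0 : F) ∉ T)
    (h : T.image (μ * ·) = T) (hμ : μ ≠ 0) : μ ^ T.card = 1 := by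
  have e : ∏ x ∈ T, μ * x = ∏ x ∈ T, x := by
    conv_rhs => rw [← h]
    exact (Finset.prod_image (f := fun x => x) fun a _ b _ hab => mul_left_cancel₀ hμ hab).symm
  rw [Finset.prod_mul_distrib, Finset.prod_const] at e
  refine mul_right_cancel₀ (Finset.prod_ne_zero_iff.2 fun x hx => ?_) (e.trans (one_mul _).symm)
  rintro rfl
  exact h0 hx

theorem odd_smul [DecidableEq F] {T : Finset F} (hT : Odd T.card) (d : F) : T.card • d = d := by
  obtain ⟨k, hk⟩ := hT
  rw [hk, nsmul_eq_mul]
  push_cast
  rw [show (2 : F) = 0 from CharTwo.two_eq_zero]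
  ring

end CfsgLib.RankOne.UnitaryUnique
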