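import Cfsg.Agent.Lib.RankOne.UnitaryUnique.Plane

/-!
# The vectors of one scale lie on a conic

Adding the coordinates of two points of a line gives a quadratic relation for the second end of the chord, and
shows that the twist of the translation rule is trivial.
-/

set_option autoImplicit false
set_option linter.style.haveILetI false
set_option linter.unusedSectionVars false

namespace CfsgLib.RankOne.UnitaryUnique

open CfsgLib.Classical CfsgLib.RankOne.UnitarySylow

variable {F : Type*} [Field F] [CharP F 2] {σ : F →+* F} [Fintype F] [DecidableEq F] {q : ℕ}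
  [hσ : Fact (IsConjugation σ)] [hq : Fact (Fintype.card F = q ^ 2 ∧ ∀ x, σ x = x ^ q)]
  {C : Fix σ × Fix σ → F} {φ : Fix σ →*₀ Fix σ} {ε : F}

/-- The translation rule at one point with given data. -/
def KeyAt (C : Fix σ × Fix σ → F) (p v Y : Fix σ × Fix σ) (τ : Fix σ ≃+* Fix σ) : Prop :=
  ∀ ζ : Fix σ, ζ ≠ 0 → C (p + ζ • v) + C p = C (p + τ ζ⁻¹ • Y)

namespace Plane

variable (P : Plane C φ ε)
include P

include hq in
/-- The other end of the chord through a point of the line. -/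
theorem exists_partner {u w : Fix σ × Fix σ} (h : det u w = 1) :
    ∃! z : Fix σ × Fix σ, z ≠ 0 ∧ z ≠ w ∧ Oc C z = Oc C w ∧ C u = Zc C w + Zc C z := by
  have hw : w ≠ 0 := fun e => by rw [e, det_zero_right] at h; exact zero_ne_one h
  obtain ⟨-, hall, hinj⟩ := P.exists_scale (q := q) hw
  have hu := P.ne_zero (P.line_ne h)
  obtain ⟨z, hz, hzO, hzZ⟩ := hall _ (P.add_mem_Oc (P.mem_Gam.2 (Or.inr ⟨u, h, rfl⟩)))
  have e : C u = Zc C w + Zc C z := by
    rw [hzZ]; linear_combination -Zc C w * CharTwo.two_eq_zero (R := F)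
  refine ⟨z, ⟨hz, fun e' => hu ?_, hzO, e⟩, ?_⟩
  · rw [e, e']; exact CharTwo.add_self_eq_zero _
  · rintro z' ⟨hz', -, hO', e'⟩
    exact hinj z' z hz' hz (hO'.trans hzO.symm) (add_left_cancel (e'.symm.trans e))

include hq in
theorem partner_eq {u w z : Fix σ × Fix σ} (h : det u w = 1) (hz : z ≠ 0) (hne : z ≠ w) (hO : Oc C z = Oc C w)
    (e : C u = Zc C w + Zc C z) : det w z ≠ 0 ∧ z = w + det w z • u := by
  have hw : w ≠ 0 := fun e => by rw [e, det_zero_right] at h; exact zero_ne_one h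
  obtain ⟨hd, hp⟩ := P.pair (q := q) hw hz (Ne.symm hne) hO
  have hu : u = (det w z)⁻¹ • (w + z) := P.inj (e.trans hp.symm)
  refine ⟨hd, ?_⟩
  rw [hu, smul_smul, mul_inv_cancel₀ hd, one_smul, ← add_assoc]
  refine Prod.ext ?_ ?_
  · show z.1 = w.1 + w.1 + z.1
    rw [add_self_fix, zero_add]
  · show z.2 = w.2 + w.2 + z.2
    rw [add_self_fix, zero_add]

include hq in
/-- The inverse determinants of the chords through `w`. -/
theorem D_rel {u w Y z₀ z : Fix σ × Fix σ} {τ : Fix σ ≃+* Fix σ} (h : det u w = 1) (hk : KeyAt C u w Y τ)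
    {ζ : Fix σ} (hζ : ζ ≠ 0) (hz₀ : z₀ ≠ 0 ∧ z₀ ≠ w ∧ Oc C z₀ = Oc C w ∧ C u = Zc C w + Zc C z₀)
    (hz : z ≠ 0 ∧ z ≠ w ∧ Oc C z = Oc C w ∧ C (u + ζ • w) = Zc C w + Zc C z) :
    ((det w z)⁻¹ + (det w z₀)⁻¹ + ζ) * det Y w = ζ * τ ζ := by
  have hw : w ≠ 0 := fun e => by rw [e, det_zero_right] at h; exact zero_ne_one h
  obtain ⟨hd₀, e₀⟩ := P.partner_eq (q := q) h hz₀.1 hz₀.2.1 hz₀.2.2.1 hz₀.2.2.2
  obtain ⟨hd, e⟩ := P.partner_eq (q := q) (by rw [det_line, h]) hz.1 hz.2.1 hz.2.2.1 hz.2.2.2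
  have hne : z ≠ z₀ := fun e' => hζ <| by
    have h1 : u + ζ • w = u := P.inj (by rw [hz.2.2.2, hz₀.2.2.2, e'])
    exact (smul_eq_zero.1 (add_eq_left.1 h1)).resolve_right hw
  obtain ⟨hdd, hp⟩ := P.pair (q := q) hz.1 hz₀.1 hne (hz₀.2.2.1.trans hz.2.2.1.symm)
  have hsum : C (u + ζ • w) + C u = Zc C z + Zc C z₀ := by
    rw [hz.2.2.2, hz₀.2.2.2]; linear_combination Zc C w * CharTwo.two_eq_zero (R := F)
  have hvec : (det z z₀)⁻¹ • (z + z₀) = u + τ ζ⁻¹ • Y := P.inj (by rw [hp, ← hsum, hk ζ hζ])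
  set Δ := det w z with hΔ
  set Δ₀ := det w z₀ with hΔ₀
  have h1 : det z w = Δ := det_comm z w
  have h0 : det z₀ w = Δ₀ := det_comm z₀ w
  have hzz : det z z₀ = Δ₀ + Δ + Δ * Δ₀ * ζ := by
    rw [e, e₀, det_add_left, det_add_right, det_add_right, det_smul_left, det_smul_left, det_smul_right,
      det_smul_right, det_self, det_add_left, det_add_left, det_smul_left, det_smul_left, det_self, det_self,
      det_comm w u, h]
    ring
  have hh := congrArg (fun v => det v w) hvec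
  simp only [det_smul_left, det_add_left, h, h1, h0] at hh
  rw [map_inv₀] at hh
  have hτ : τ ζ ≠ 0 := (map_ne_zero τ).2 hζ
  have h2 : (Δ + Δ₀) * τ ζ = (τ ζ + det Y w) * det z z₀ := by
    field_simp at hh
    linear_combination hh
  rw [hzz] at h2
  field_simp
  linear_combination h2 + (Δ₀ * Δ * ζ * det Y w + Δ₀ * det Y w + Δ * det Y w) * two_fix (σ := σ)

include hq in
/-- The relation in the form of a function on the line. -/
theorem exists_D {u w Y : Fix σ × Fix σ} {τ : Fix σ ≃+* Fix σ} (h : det u w = 1) (hk : KeyAt C u w Y τ) :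
    ∃ κ D₀ : Fix σ, κ ≠ 0 ∧ ∀ ζ z, (z ≠ 0 ∧ z ≠ w ∧ Oc C z = Oc C w ∧ C (u + ζ • w) = Zc C w + Zc C z) →
      (det w z)⁻¹ = D₀ + ζ + κ * (ζ * τ ζ) := by
  obtain ⟨z₀, hz₀, huniq⟩ := P.exists_partner (q := q) h
  obtain ⟨z₁, hz₁, -⟩ := P.exists_partner (q := q) (u := u + (1 : Fix σ) • w) (w := w) (by rw [det_line, h])
  have hY : det Y w ≠ 0 := fun e => by
    have := P.D_rel (q := q) h hk one_ne_zero hz₀ hz₁
    rw [e, mul_zero, map_one, mul_one] at this
    exact zero_ne_one this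
  refine ⟨(det Y w)⁻¹, (det w z₀)⁻¹, inv_ne_zero hY, fun ζ z hz => ?_⟩
  rcases eq_or_ne ζ 0 with rfl | hζ
  · rw [huniq z (by simpa using hz), zero_mul, mul_zero, add_zero, add_zero]
  · have := P.D_rel (q := q) h hk hζ hz₀ hz
    rw [← this, mul_comm (det Y w)⁻¹, mul_assoc, mul_inv_cancel₀ hY, mul_one]
    linear_combination -((det w z₀)⁻¹ + ζ) * two_fix (σ := σ)

include hq in
/-- The twist is trivial. -/
theorem tau_eq_refl {u w Y : Fix σ × Fix σ} {τ : Fix σ ≃+* Fix σ} (h : det u w = 1) (hk : KeyAt C u w Y τ)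
    (η : Fix σ) : τ η = η := by
  have h' : det (u + w) w = 1 := by rw [det_add_left, det_self, add_zero, h]
  obtain ⟨Y', τ', -, hk'⟩ := P.key (u + w) w h'
  obtain ⟨κ, D₀, hκ, hD⟩ := P.exists_D (q := q) h hk
  obtain ⟨κ', D₁, -, hD'⟩ := P.exists_D (q := q) h' hk'
  have hval : ∀ ζ, D₀ + (1 + ζ) + κ * ((1 + ζ) * τ (1 + ζ)) = D₁ + ζ + κ' * (ζ * τ' ζ) := fun ζ => by
    obtain ⟨z, hz, -⟩ := P.exists_partner (q := q) (u := u + (1 + ζ) • w) (w := w) (by rw [det_line, h])
    rw [← hD _ z hz]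
    exact hD' ζ z (by rwa [add_assoc, show w + ζ • w = (1 + ζ) • w by rw [add_smul, one_smul]])
  set g : Fix σ → Fix σ := fun x => κ * (x + τ x) with hg
  set E : Fix σ → Fix σ := fun x => κ * τ x + κ' * τ' x with hE
  have hgE : ∀ x, g x = x * E x := fun x => by
    have h0 := hval 0
    have hx := hval x
    simp only [map_add, map_one, map_zero, mul_zero, zero_mul, add_zero, mul_one] at h0 hx
    simp only [hg, hE]
    linear_combination hx - h0 - (κ * x * τ x) * two_fix (σ := σ)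
  have hE1 : E 1 = 0 := by
    have := hgE 1
    simp only [hg, map_one, add_self_fix, mul_zero, one_mul] at this
    exact this.symm
  have hpol : ∀ x, E x = 0 := fun x => by
    have h1 := hgE (x + 1)
    have h2 := hgE x
    have h3 := hgE 1
    have hEa : E (x + 1) = E x + E 1 := by simp only [hE, map_add]; ring
    have hga : g (x + 1) = g x + g 1 := by simp only [hg, map_add]; ring
    rw [hga, hEa, h2, h3, hE1] at h1
    linear_combination -h1
  have h4 := hgE η
  rw [hpol, mul_zero] at h4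
  exact eq_of_sub_eq_zero (by linear_combination (mul_eq_zero.1 h4).resolve_left hκ - η * two_fix (σ := σ))

include hq in
/-- The conic. -/
theorem exists_conic {u w : Fix σ × Fix σ} (h : det u w = 1) :
    ∃ κ D₀ : Fix σ, κ ≠ 0 ∧ (∀ v : Fix σ × Fix σ, v ≠ 0 → Oc C v = Oc C w →
      κ * det u v ^ 2 + det u v * det v w + D₀ * det v w ^ 2 = κ) ∧ ∀ x : Fix σ, κ * x ^ 2 + x + D₀ ≠ 0 := by
  have hw : w ≠ 0 := fun e => by rw [e, det_zero_right] at h; exact zero_ne_one h
  obtain ⟨Y, τ, -, hk⟩ := P.key u w h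
  obtain ⟨κ, D₀, hκ, hD⟩ := P.exists_D (q := q) h hk
  have hτ := P.tau_eq_refl (q := q) h hk
  have hmain : ∀ v : Fix σ × Fix σ, v ≠ 0 → Oc C v = Oc C w →
      κ * det u v ^ 2 + det u v * det v w + D₀ * det v w ^ 2 = κ := by
    intro v hv hO
    rcases eq_or_ne v w with rfl | hne
    · rw [h, det_self]; ring
    obtain ⟨hd, hp⟩ := P.pair (q := q) hw hv (Ne.symm hne) hO
    set p := (det w v)⁻¹ • (w + v) with hpdef
    have hpw : det p w = 1 := by
      rw [hpdef, det_smul_left, det_add_left, det_self, zero_add, det_comm v w, inv_mul_cancel₀ hd]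
    have hpu : p = u + det u p • w := line_param h hpw
    set ζ := det u p with hζ
    obtain ⟨-, ev⟩ := P.partner_eq (q := q) hpw hv hne hO hp
    have hDv := hD ζ v ⟨hv, hne, hO, by rw [← hpu]; exact hp⟩
    rw [hτ] at hDv
    set Δ := det w v with hΔ
    have ea : det u v = 1 + Δ * ζ := by
      rw [ev, det_add_right, det_smul_right, h]
    have eb : det v w = Δ := det_comm v w
    rw [ea, eb]
    have hinv : Δ * (D₀ + ζ + κ * (ζ * ζ)) = 1 := by rw [← hDv, mul_inv_cancel₀ hd]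
    linear_combination Δ * hinv + (κ * Δ * ζ + Δ) * two_fix (σ := σ)
  refine ⟨κ, D₀, hκ, hmain, fun x hx => ?_⟩
  have hv : x • w + u ≠ 0 := fun e => by
    have := congrArg (fun v => det v w) e
    simp only [det_add_left, det_smul_left, det_self, mul_zero, zero_add, h, det_zero_left] at this
    exact one_ne_zero this
  obtain ⟨a, ha, hO⟩ := (P.exists_scale (q := q) hw).1 _ hv
  have hO' : Oc C (a⁻¹ • (x • w + u)) = Oc C w := by
    rw [P.Oc_smul (inv_ne_zero ha), hO, P.Oc_smul ha, Finset.image_image]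
    conv_rhs => rw [← Finset.image_id (s := Oc C w)]
    refine Finset.image_congr fun y _ => ?_
    show ((φ a⁻¹ : Fix σ) : F) * ((φ a : F) * y) = y
    rw [map_inv₀]
    push_cast
    rw [inv_mul_cancel_left₀ (P.φ_ne ha)]
  have h1 := hmain _ (smul_ne_zero (inv_ne_zero ha) hv) hO'
  rw [det_smul_right, det_smul_left, det_add_right, det_add_left, det_smul_right, det_smul_left, det_self, det_self,
    h] at h1
  refine hκ ?_
  linear_combination -h1 + a⁻¹ ^ 2 * hx

end Plane

end CfsgLib.RankOne.UnitaryUnique
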