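import Cfsg.Agent.Lib.RankOne.UnitaryUnique.Conic
import Cfsg.Agent.Lib.LocalEven.StrongCore.Frobenius

/-!
# The coordinate function is the inverse of a semilinear map

The conic identifies the plane with the field; the chord relation makes the multiplier additive and gives a
recurrence along the norm-one elements, whose only solutions compatible with a rotation are monomials.
-/

set_option autoImplicit false
set_option linter.style.haveILetI false
set_option linter.unusedSectionVars false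

namespace CfsgLib.RankOne.UnitaryUnique

open CfsgLib.Classical CfsgLib.RankOne.UnitarySylow

variable {F : Type*} [Field F] [CharP F 2] {σ : F →+* F} [Fintype F] {q : ℕ}
  [hσ : Fact (IsConjugation σ)] [hq : Fact (Fintype.card F = q ^ 2 ∧ ∀ x, σ x = x ^ q)]

/-- The Artin–Schreier map of the fixed field. -/
def asHom : Fix σ →+ Fix σ where
  toFun x := x * x + x
  map_zero' := by simp
  map_add' x y := by linear_combination (x * y) * two_fix (σ := σ)

theorem asHom_apply (x : Fix σ) : asHom x = x * x + x := rfl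

theorem exists_sqrt (x : Fix σ) : ∃ r : Fix σ, r * r = x := by
  obtain ⟨r, hr⟩ := Finite.injective_iff_surjective.1 (frobenius_inj F 2) (x : F)
  rw [frobenius_def, pow_two] at hr
  refine ⟨⟨r, ?_⟩, Subtype.ext hr⟩
  show σ r = r
  apply frobenius_inj F 2
  rw [frobenius_def, frobenius_def, ← map_pow, pow_two, hr, fix_apply]

theorem exists_trace_one : ∃ y : F, σ y = y + 1 := by
  obtain ⟨y, hy⟩ := hσ.out.exists_trace_eq (map_one σ)
  exact ⟨y, by linear_combination hy - y * CharTwo.two_eq_zero (R := F)⟩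

theorem asHom_index : (asHom (σ := σ)).range.index = 2 := by
  have hker : Nat.card (asHom (σ := σ)).ker = 2 := by
    rw [Nat.card_eq_two_iff]
    refine ⟨⟨0, by rw [AddMonoidHom.mem_ker, map_zero]⟩, ⟨1, by rw [AddMonoidHom.mem_ker, asHom_apply, one_mul, add_self_fix]⟩,
      fun e => zero_ne_one (congrArg Subtype.val e), Set.eq_univ_of_forall fun x => ?_⟩
    have hx : (x : Fix σ) * ((x : Fix σ) + 1) = 0 := by
      have := AddMonoidHom.mem_ker.1 x.2
      rw [asHom_apply] at this
      linear_combination this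
    rcases mul_eq_zero.1 hx with h | h
    · exact Or.inl (Subtype.ext h)
    · exact Or.inr (Subtype.ext (by linear_combination h - two_fix (σ := σ)))
  have h1 := AddSubgroup.index_ker (asHom (σ := σ))
  have h2 := (asHom (σ := σ)).ker.card_mul_index
  have h3 := (asHom (σ := σ)).range.card_mul_index
  rw [h1, hker] at h2
  rw [← h2, mul_comm 2] at h3
  exact Nat.eq_of_mul_eq_mul_left Nat.card_pos h3

/-- Artin–Schreier equations over the fixed field are solvable in the field. -/
theorem exists_as (c : Fix σ) :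
    ∃ y : F, y * y + y = (c : F) ∧ ((σ y = y ∧ c ∈ (asHom (σ := σ)).range) ∨ (σ y = y + 1 ∧ c ∉ (asHom (σ := σ)).range)) := by
  by_cases hc : c ∈ (asHom (σ := σ)).range
  · obtain ⟨x, rfl⟩ := hc
    exact ⟨x, rfl, Or.inl ⟨fix_apply x, x, rfl⟩⟩
  obtain ⟨y₀, hy₀⟩ := exists_trace_one (σ := σ)
  have h2 := CharTwo.two_eq_zero (R := F)
  set c₀ : Fix σ := ⟨y₀ * y₀ + y₀, by
    show σ (y₀ * y₀ + y₀) = y₀ * y₀ + y₀
    rw [map_add, map_mul, hy₀]
    linear_combination (y₀ + 1) * h2⟩
  have hc₀ : c₀ ∉ (asHom (σ := σ)).range := by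
    rintro ⟨x, hx⟩
    have hx' : (x : F) * x + x = y₀ * y₀ + y₀ := congrArg Subtype.val hx
    have hp : (y₀ + x) * (y₀ + x + 1) = 0 := by
      linear_combination hx' + (y₀ * x + y₀ * y₀ + y₀) * h2
    have hs : σ (y₀ + x) = y₀ + x + 1 := by rw [map_add, hy₀, fix_apply]; ring
    rcases mul_eq_zero.1 hp with h | h
    · rw [h, map_zero, zero_add] at hs
      exact zero_ne_one hs
    · have := congrArg σ h
      rw [map_add, hs, map_one, map_zero] at this
      exact one_ne_zero (α := F) (by linear_combination this - h)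
  obtain ⟨x, hx⟩ := (AddSubgroup.add_mem_iff_of_index_two (asHom_index (σ := σ))).2 (iff_of_false hc hc₀)
  have hx' : (x : F) * x + x = c + (y₀ * y₀ + y₀) := congrArg Subtype.val hx
  refine ⟨x + y₀, ?_, Or.inr ⟨?_, hc⟩⟩
  · linear_combination hx' + (x * y₀ + y₀ * y₀ + y₀) * h2
  · rw [map_add, hy₀, fix_apply, add_assoc]

theorem sq_mem_range {u : Fix σ} (h : u * u ∈ (asHom (σ := σ)).range) : u ∈ (asHom (σ := σ)).range := by
  obtain ⟨z, hz⟩ := h
  obtain ⟨w, rfl⟩ := exists_sqrt z
  refine ⟨w, eq_of_sub_eq_zero (pow_eq_zero_iff two_ne_zero |>.1 (?_ : (asHom w - u) ^ 2 = 0))⟩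
  rw [asHom_apply] at hz ⊢
  linear_combination hz + (w * w * w - w * w * u - w * u + u * u) * two_fix (σ := σ)

variable [DecidableEq F]

/-- An identification of the plane with the field carrying the classes onto circles. -/
structure Lam (C : Fix σ × Fix σ → F) (Λ : Fix σ × Fix σ ≃+ F) (R : Fix σ) : Prop where
  R_ne : R ≠ 0
  smul : ∀ (a : Fix σ) v, Λ (a • v) = a * Λ v
  det_eq : ∀ v w, (det v w : F) = Λ v * σ (Λ w) + σ (Λ v) * Λ w
  cls : ∃ w₀, w₀ ≠ 0 ∧ ∀ v, v ≠ 0 → (Oc C v = Oc C w₀ ↔ Λ v * σ (Λ v) = R * R)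

namespace Plane

variable {C : Fix σ × Fix σ → F} {φ : Fix σ →*₀ Fix σ} {ε : F} (P : Plane C φ ε)
include P

include hq in
theorem exists_Lam : ∃ Λ R, Lam C Λ R := by
  have hw : ((1 : Fix σ), (0 : Fix σ)) ≠ 0 := fun e => one_ne_zero (congrArg Prod.fst e)
  obtain ⟨u, hu⟩ := exists_det_one hw
  set w : Fix σ × Fix σ := (1, 0)
  obtain ⟨κ, D₀, hκ, hQ, hroot⟩ := P.exists_conic (q := q) hu
  obtain ⟨y, hy, hy'⟩ := exists_as (κ * D₀)
  have h2 := CharTwo.two_eq_zero (R := F)
  have hk0 : (κ : F) ≠ 0 := fun e => hκ (Subtype.ext e)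
  have hys : σ y = y + 1 := by
    rcases hy' with ⟨-, x, hx⟩ | ⟨h, -⟩
    · exfalso
      refine hroot (κ⁻¹ * x) ?_
      rw [asHom_apply] at hx
      field_simp
      linear_combination hx + (κ * D₀) * two_fix (σ := σ)
    · exact h
  obtain ⟨R, hR⟩ := exists_sqrt κ
  have hR0 : R ≠ 0 := fun e => hκ (by rw [← hR, e, mul_zero])
  have hRf : (R : F) * R = κ := congrArg Subtype.val hR
  set ω : F := (κ : F)⁻¹ * y with hω
  have hσω : σ ω = (κ : F)⁻¹ * (y + 1) := by rw [hω, map_mul, map_inv₀, fix_apply, hys]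
  let Λ₀ : Fix σ × Fix σ →+ F :=
    { toFun := fun v => R * ((det u v : F) + (det v w : F) * ω)
      map_zero' := by simp [det_zero_left, det_zero_right]
      map_add' := fun v v' => by rw [det_add_right, det_add_left]; push_cast; ring }
  have hΛ₀ : Function.Injective Λ₀ := (injective_iff_map_eq_zero Λ₀).2 fun v hv => by
    have hv' : (det u v : F) + (det v w : F) * ω = 0 :=
      (mul_eq_zero.1 hv).resolve_left fun e => hR0 (Subtype.ext e)
    have hs := congrArg σ hv'
    rw [map_add, map_mul, fix_apply, fix_apply, hσω, map_zero] at hs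
    rw [hω] at hv'
    have hb : (det v w : F) * (κ : F)⁻¹ = 0 := by linear_combination hs - hv'
    have hb' : (det v w : F) = 0 := (mul_eq_zero.1 hb).resolve_right (inv_ne_zero hk0)
    rw [hb', zero_mul, add_zero] at hv'
    have e1 : det v w = 0 := Subtype.ext hb'
    have e2 : det u v = 0 := Subtype.ext hv'
    rw [basis_decomp hu v, e1, e2, zero_smul, zero_smul, add_zero]
  have hcard : Nat.card (Fix σ × Fix σ) = Nat.card F := by
    rw [Nat.card_prod, card_Fix (σ := σ) (q := q), Nat.card_eq_fintype_card, hq.out.1, pow_two]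
  let Λ := AddEquiv.ofBijective Λ₀ ((Nat.bijective_iff_injective_and_card _).2 ⟨hΛ₀, hcard⟩)
  have hΛ : ∀ v, Λ v = R * ((det u v : F) + (det v w : F) * ω) := fun v => rfl
  have hN : ∀ v, Λ v * σ (Λ v) =
      ((κ * det u v ^ 2 + det u v * det v w + D₀ * det v w ^ 2 : Fix σ) : F) := fun v => by
    rw [hΛ, map_mul, map_add, map_mul, fix_apply, fix_apply, fix_apply, hσω, hω]
    push_cast
    have hy2 : y * y + y = (κ : F) * D₀ := hy
    field_simp
    linear_combination ((κ : F) * (det u v : F) + (det v w : F) * y) *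
        ((κ : F) * (det u v : F) + (det v w : F) * (y + 1)) * hRf +
      (κ : F) * (det v w : F) ^ 2 * hy2 + (κ : F) ^ 2 * (det u v : F) * (det v w : F) * y * h2
  refine ⟨Λ, R, hR0, fun a v => ?_, fun v v' => ?_, w, hw, fun v hv => ⟨fun hO => ?_, fun h => ?_⟩⟩
  · rw [hΛ, hΛ, det_smul_right, det_smul_left]; push_cast; ring
  · have e1 : det v v' * det u w = det u v * det v' w + det v w * det u v' := by
      simp only [det]; linear_combination -(v'.2 * v.2 * u.1) * two_fix (σ := σ)
    rw [hu, mul_one] at e1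
    rw [e1, hΛ, hΛ]
    simp only [map_mul, map_add, fix_apply, hσω]
    push_cast
    rw [hω]
    field_simp
    linear_combination -((κ : F) * (det u v : F) + (det v w : F) * y) *
        ((κ : F) * (det u v' : F) + (det v' w : F) * (y + 1)) * hRf -
      ((κ : F) * (det u v : F) + (det v w : F) * (y + 1)) * ((κ : F) * (det u v' : F) + (det v' w : F) * y) * hRf -
      ((det u v : F) * (det v' w : F) * (κ : F) ^ 2 * y + (det u v : F) * (det u v' : F) * (κ : F) ^ 3 +
        (det v' w : F) * (det v w : F) * (κ : F) * y + (det v' w : F) * (det v w : F) * (κ : F) * y ^ 2 +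
        (det v w : F) * (det u v' : F) * (κ : F) ^ 2 * y) * h2
  · rw [hN, hQ v hv hO, hRf]
  · obtain ⟨a, ha, hO⟩ := (P.exists_scale (q := q) hw).1 v hv
    have hO' : Oc C (a⁻¹ • v) = Oc C w := by
      rw [P.Oc_smul (inv_ne_zero ha), hO, P.Oc_smul ha, Finset.image_image]
      conv_rhs => rw [← Finset.image_id (s := Oc C w)]
      refine Finset.image_congr fun y _ => ?_
      show ((φ a⁻¹ : Fix σ) : F) * ((φ a : F) * y) = y
      rw [map_inv₀]
      push_cast
      rw [inv_mul_cancel_left₀ (P.φ_ne ha)]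
    have h1 := hQ _ (smul_ne_zero (inv_ne_zero ha) hv) hO'
    rw [det_smul_right, det_smul_left] at h1
    rw [hN, hRf] at h
    have h' := Subtype.ext h
    have h3 : κ * (a⁻¹ * a⁻¹) = κ := by
      linear_combination h1 - a⁻¹ * a⁻¹ * h'
    have h4 : (a⁻¹ + 1) * (a⁻¹ + 1) = 0 := by
      refine (mul_eq_zero.1 (?_ : κ * ((a⁻¹ + 1) * (a⁻¹ + 1)) = 0)).resolve_left hκ
      linear_combination h3 + (κ * a⁻¹ + κ) * two_fix (σ := σ)
    have h5 : a⁻¹ = 1 := by
      linear_combination mul_self_eq_zero.1 h4 - two_fix (σ := σ)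
    rw [inv_eq_one] at h5
    rw [hO, h5, one_smul]

variable {Λ : Fix σ × Fix σ ≃+ F} {R : Fix σ} (L : Lam C Λ R)
include L

omit P in
theorem Lam_ne {x : F} (hx : x ≠ 0) : Λ.symm x ≠ 0 := fun e => hx (by
  have := congrArg Λ e
  rwa [Λ.apply_symm_apply, map_zero] at this)

omit P in
theorem ne_of_norm {γ : F} (hγ : γ * σ γ = 1) : γ ≠ 0 := fun e => by
  rw [e, zero_mul] at hγ; exact zero_ne_one hγ

omit P L in
theorem sq_ne {g : F} (hg : g * σ g = 1) (hg1 : g ≠ 1) : g + σ g ≠ 0 := fun e => hg1 (by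
  have e' : σ g = g := (CharTwo.add_eq_zero.1 e).symm
  rw [e'] at hg
  have h : (g + 1) * (g + 1) = 0 := by linear_combination hg + (g + 1) * CharTwo.two_eq_zero (R := F)
  exact CharTwo.add_eq_zero.1 (mul_self_eq_zero.1 h))

/-- The trace of an element. -/
def tr (g : F) : Fix σ := ⟨g + σ g, by
  show σ (g + σ g) = g + σ g
  rw [map_add, hσ.out.invol, add_comm]⟩

omit P L in
theorem tr_ne {g : F} (hg : g * σ g = 1) (hg1 : g ≠ 1) : tr (σ := σ) g ≠ 0 := fun e =>
  sq_ne hg hg1 (congrArg Subtype.val e)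

include hq in
/-- The chord relation. -/
theorem chord {γ g : F} (hγ : γ * σ γ = 1) (hg : g * σ g = 1) (hg1 : g ≠ 1) :
    Zc C (Λ.symm ((R : F) * (γ * g))) + Zc C (Λ.symm ((R : F) * (γ * σ g))) =
      (φ R : F) * (φ (tr (σ := σ) g) : F) * C (Λ.symm γ) := by
  obtain ⟨w₀, hw₀, hcls⟩ := L.cls
  have hR : (R : F) ≠ 0 := fun e => L.R_ne (Subtype.ext e)
  have hγ0 := ne_of_norm L hγ
  have hg0 := ne_of_norm L hg
  set x := (R : F) * (γ * g) with hx
  set x' := (R : F) * (γ * σ g) with hx'
  have hx0 : x ≠ 0 := mul_ne_zero hR (mul_ne_zero hγ0 hg0)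
  have hx0' : x' ≠ 0 := mul_ne_zero hR (mul_ne_zero hγ0 ((map_ne_zero σ).2 hg0))
  have hNx : x * σ x = R * R := by
    rw [hx, map_mul, map_mul, fix_apply]; linear_combination (R : F) * R * g * σ g * hγ + (R : F) * R * hg
  have hNx' : x' * σ x' = R * R := by
    rw [hx', map_mul, map_mul, fix_apply, hσ.out.invol]
    linear_combination (R : F) * R * σ g * g * hγ + (R : F) * R * hg
  have hne : Λ.symm x ≠ Λ.symm x' := fun e => sq_ne hg hg1 (by
    have e' := mul_left_cancel₀ hγ0 (mul_left_cancel₀ hR (Λ.symm.injective e))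
    rw [← e']; exact CharTwo.add_self_eq_zero g)
  have hcl : ∀ y, y ≠ 0 → y * σ y = (R : F) * R → Oc C (Λ.symm y) = Oc C w₀ := fun y hy hN =>
    (hcls _ (Lam_ne L hy)).2 (by rw [Λ.apply_symm_apply, hN])
  obtain ⟨hd, hp⟩ := P.pair (q := q) (Lam_ne L hx0) (Lam_ne L hx0') hne
    ((hcl x' hx0' hNx').trans (hcl x hx0 hNx).symm)
  set a := tr (σ := σ) g with ha
  have haf : (a : F) = g + σ g := rfl
  have ha0 : a ≠ 0 := tr_ne hg hg1
  have hdet : det (Λ.symm x) (Λ.symm x') = R * R * (a * a) := by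
    refine Subtype.ext ?_
    rw [L.det_eq, Λ.apply_symm_apply, Λ.apply_symm_apply, hx, hx', map_mul, map_mul, map_mul, map_mul, fix_apply,
      hσ.out.invol]
    push_cast
    rw [haf]
    linear_combination (R : F) * R * (g * g + σ g * σ g) * hγ - (R : F) * R * g * σ g * CharTwo.two_eq_zero (R := F)
  have hsum : (det (Λ.symm x) (Λ.symm x'))⁻¹ • (Λ.symm x + Λ.symm x') = (R * a)⁻¹ • Λ.symm γ := by
    refine Λ.injective ?_
    rw [L.smul, L.smul, map_add, Λ.apply_symm_apply, Λ.apply_symm_apply, Λ.apply_symm_apply, hdet, hx, hx']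
    push_cast
    have : (a : F) ≠ 0 := fun e => ha0 (Subtype.ext e)
    field_simp
    rw [haf]
  rw [hsum, P.homog _ (inv_ne_zero (mul_ne_zero L.R_ne ha0)), map_inv₀, map_mul] at hp
  rw [← hp]
  push_cast
  rw [inv_inv]

include hq in
/-- The recurrence. -/
theorem recur {γ g : F} (hγ : γ * σ γ = 1) (hg : g * σ g = 1) (hg1 : g ≠ 1) :
    C (Λ.symm (γ * g)) + C (Λ.symm (γ * σ g)) = (φ (tr (σ := σ) g) : F) * C (Λ.symm γ) := by
  have hN : ∀ {a b : F}, a * σ a = 1 → b * σ b = 1 → a * b * σ (a * b) = 1 := fun {a b} ha hb => by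
    rw [map_mul]; linear_combination b * σ b * ha + hb
  have hσg : σ g * σ (σ g) = 1 := by rw [hσ.out.invol, mul_comm]; exact hg
  have hgg1 : g * g ≠ 1 := fun e => sq_ne hg hg1 (by
    have : σ g = g := by
      have h0 := ne_of_norm L hg
      exact mul_left_cancel₀ h0 (hg.trans e.symm)
    rw [this]; exact CharTwo.add_self_eq_zero g)
  have e1 := P.chord L (q := q) (hN hγ hg) hg hg1
  have e2 := P.chord L (q := q) (hN hγ hσg) hg hg1
  have e3 := P.chord L (q := q) hγ (hN hg hg) hgg1
  have ht : tr (σ := σ) (g * g) = tr (σ := σ) g * tr (σ := σ) g := Subtype.ext (by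
    show g * g + σ (g * g) = (g + σ g) * (g + σ g)
    rw [map_mul]; linear_combination -(g * σ g) * CharTwo.two_eq_zero (R := F))
  rw [ht, map_mul φ] at e3
  rw [show γ * σ g * g = γ * g * σ g by ring, show γ * g * g = γ * (g * g) by ring] at *
  rw [show γ * σ g * σ g = γ * σ (g * g) by rw [map_mul]; ring] at e2
  have hne : ((φ R : F)) * (φ (tr (σ := σ) g) : F) ≠ 0 :=
    mul_ne_zero (P.φ_ne L.R_ne) (P.φ_ne (tr_ne hg hg1))
  refine mul_left_cancel₀ hne ?_
  push_cast at e3
  linear_combination -e1 - e2 + e3 +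
    Zc C (Λ.symm ((R : F) * (γ * g * σ g))) * CharTwo.two_eq_zero (R := F)

include hq in
/-- The multiplier respects the product formula of traces. -/
theorem trace_mul {g h : F} (hg : g * σ g = 1) (hg1 : g ≠ 1) (hh : h * σ h = 1) (hh1 : h ≠ 1) (h1 : g * h ≠ 1)
    (h1' : g * σ h ≠ 1) :
    φ (tr (σ := σ) (g * h)) + φ (tr (σ := σ) (g * σ h)) = φ (tr (σ := σ) g) * φ (tr (σ := σ) h) := by
  have hσh : σ h * σ (σ h) = 1 := by rw [hσ.out.invol, mul_comm]; exact hh
  have hσg : σ g * σ (σ g) = 1 := by rw [hσ.out.invol, mul_comm]; exact hg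
  have hN : ∀ {a b : F}, a * σ a = 1 → b * σ b = 1 → a * b * σ (a * b) = 1 := fun {a b} ha hb => by
    rw [map_mul]; linear_combination b * σ b * ha + hb
  have h0 : (1 : F) * σ 1 = 1 := by rw [map_one, one_mul]
  have e1 := P.recur L (q := q) h0 hg hg1
  have e2 := P.recur L (q := q) h0 (hN hg hh) h1
  have e3 := P.recur L (q := q) h0 (hN hg hσh) h1'
  have e4 := P.recur L (q := q) hg hh hh1
  have e5 := P.recur L (q := q) hσg hh hh1
  simp only [one_mul, map_mul, hσ.out.invol] at e1 e2 e3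
  refine Subtype.ext (mul_right_cancel₀ (P.ne_zero (Lam_ne L (one_ne_zero (α := F)))) ?_)
  push_cast
  linear_combination -e2 - e3 + e4 + e5 + (φ (tr (σ := σ) h) : F) * e1

include hq in
/-- The multiplier is additive. -/
theorem φ_add (x y : Fix σ) : φ (x + y) = φ x + φ y := by
  have h2 := CharTwo.two_eq_zero (R := F)
  have key : ∀ r : Fix σ, φ (1 + r) = 1 + φ r := by
    intro r
    rcases eq_or_ne r 0 with rfl | hr0
    · simp
    rcases eq_or_ne r 1 with rfl | hr1
    · rw [add_self_fix, map_zero, map_one, add_self_fix]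
    -- two parameters outside the image
    obtain ⟨u, hu, hu'⟩ : ∃ u : Fix σ, u ∉ (asHom (σ := σ)).range ∧ u * r⁻¹ ∉ (asHom (σ := σ)).range := by
      obtain ⟨a, ha⟩ : ∃ a : Fix σ, a ∉ (asHom (σ := σ)).range := by
        by_contra! hall
        have := asHom_index (σ := σ)
        rw [(AddSubgroup.eq_top_iff' _).2 hall, AddSubgroup.index_top] at this
        omega
      have hb : (a * r) * r⁻¹ ∉ (asHom (σ := σ)).range := by rwa [mul_inv_cancel_right₀ hr0]
      by_cases h1 : a * r⁻¹ ∈ (asHom (σ := σ)).range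
      · by_cases h2 : a * r ∈ (asHom (σ := σ)).range
        · refine ⟨a + a * r, fun h => ha ?_, fun h => hb ?_⟩
          · exact (add_mem_cancel_right h2).1 h
          · rw [add_mul] at h
            exact (add_mem_cancel_left h1).1 h
        · exact ⟨a * r, h2, hb⟩
      · exact ⟨a, ha, h1⟩
    have hmk : ∀ x : Fix σ, x ∉ (asHom (σ := σ)).range → ∃ s : F, s * σ s = 1 ∧ s ≠ 1 ∧ tr (σ := σ) s = x⁻¹ := by
      intro x hx
      have hx0 : x ≠ 0 := fun e => hx (e ▸ zero_mem _)
      obtain ⟨z, hz, ⟨-, h⟩ | ⟨hz', -⟩⟩ := exists_as (x * x)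
      · exact absurd (sq_mem_range h) hx
      have hxf : (x : F) ≠ 0 := fun e => hx0 (Subtype.ext e)
      have hz2 : z * z + z = (x : F) * x := hz
      refine ⟨(x : F)⁻¹ * z, ?_, fun e => ?_, Subtype.ext ?_⟩
      · rw [map_mul, map_inv₀, fix_apply, hz']
        field_simp
        linear_combination hz2
      · have e' := congrArg σ e
        rw [map_mul, map_inv₀, fix_apply, hz', map_one, mul_add, mul_one, e] at e'
        exact inv_ne_zero hxf (by linear_combination e')
      · show (x : F)⁻¹ * z + σ ((x : F)⁻¹ * z) = ((x⁻¹ : Fix σ) : F)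
        rw [map_mul, map_inv₀, fix_apply, hz']
        push_cast
        linear_combination (x : F)⁻¹ * z * h2
    obtain ⟨s, hs, hs1, hst⟩ := hmk u hu
    obtain ⟨s', hs', hs1', hst'⟩ := hmk _ hu'
    have hu0 : u ≠ 0 := fun e => hu (e ▸ zero_mem _)
    have hxy : tr (σ := σ) s' = r * tr (σ := σ) s := by
      rw [hst, hst', mul_inv, inv_inv]; ring
    have hne : tr (σ := σ) s' ≠ tr (σ := σ) s := fun e => hr1 (by
      rw [hxy] at e
      exact (mul_eq_right₀ (by rw [hst]; exact inv_ne_zero hu0)).1 e)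
    obtain ⟨k, hk⟩ := even_q (σ := σ) (q := q)
    set m := k + 1
    have hsq : ∀ {z : F}, z * σ z = 1 → (z ^ m) * (z ^ m) = z := fun {z} hz => by
      rw [← pow_add, show m + m = (q + 1) + 1 by omega, pow_succ, pow_norm_one (σ := σ) (q := q) hz, one_mul]
    have hN : ∀ {z : F}, z * σ z = 1 → (z ^ m) * σ (z ^ m) = 1 := fun {z} hz => by
      rw [map_pow, ← mul_pow, hz, one_pow]
    have hσs' : σ s' * σ (σ s') = 1 := by rw [hσ.out.invol, mul_comm]; exact hs'
    have hss : s * s' * σ (s * s') = 1 := by rw [map_mul]; linear_combination s' * σ s' * hs + hs'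
    have hsσ : s * σ s' * σ (s * σ s') = 1 := by rw [map_mul]; linear_combination σ s' * σ (σ s') * hs + hσs'
    set g := (s * s') ^ m with hg
    set h := (s * σ s') ^ m with hh
    have egh : g * h = s := by
      rw [hg, hh, ← mul_pow, show s * s' * (s * σ s') = s * s * (s' * σ s') by ring, hs', mul_one, mul_pow, hsq hs]
    have egσh : g * σ h = s' := by
      rw [hg, hh, map_pow, map_mul, hσ.out.invol, ← mul_pow,
        show s * s' * (σ s * s') = s' * s' * (s * σ s) by ring, hs, mul_one, mul_pow, hsq hs']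
    have hg1 : g ≠ 1 := fun e => hne (by
      have e2 : s * s' = 1 := by rw [← hsq hss, ← hg, e, one_mul]
      have e3 : s' = σ s := mul_left_cancel₀ (ne_of_norm L hs) (e2.trans hs.symm)
      refine Subtype.ext ?_
      show s' + σ s' = s + σ s
      rw [e3, hσ.out.invol, add_comm])
    have hh1 : h ≠ 1 := fun e => hne (by
      have e2 : s * σ s' = 1 := by rw [← hsq hsσ, ← hh, e, one_mul]
      have e3 : σ s' = σ s := mul_left_cancel₀ (ne_of_norm L hs) (e2.trans hs.symm)
      refine Subtype.ext ?_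
      show s' + σ s' = s + σ s
      rw [e3, σ.injective e3])
    have hmain := P.trace_mul L (q := q) (hN hss) hg1 (hN hsσ) hh1 (fun e => hs1 (egh.symm.trans e))
      (fun e => hs1' (egσh.symm.trans e))
    have htr : tr (σ := σ) g * tr (σ := σ) h = tr (σ := σ) s + tr (σ := σ) s' := by
      refine Subtype.ext ?_
      show (g + σ g) * (h + σ h) = (s + σ s) + (s' + σ s')
      rw [← egh, ← egσh, map_mul, map_mul, hσ.out.invol]; ring
    rw [egh, egσh, ← map_mul, htr, hxy, map_mul] at hmain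
    have ht0 : tr (σ := σ) s ≠ 0 := by rw [hst]; exact inv_ne_zero hu0
    have hφ0 : φ (tr (σ := σ) s) ≠ 0 := fun e => P.φ_ne ht0 (congrArg Subtype.val e)
    rw [show tr (σ := σ) s + r * tr (σ := σ) s = (1 + r) * tr (σ := σ) s by ring, map_mul] at hmain
    refine mul_right_cancel₀ hφ0 ?_
    rw [← hmain]; ring
  rcases eq_or_ne x 0 with rfl | hx
  · rw [zero_add, map_zero, zero_add]
  rw [show x + y = x * (1 + y * x⁻¹) by rw [mul_add, mul_one, ← mul_assoc, mul_comm x y, mul_assoc, mul_inv_cancel₀ hx, mul_one],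
    map_mul, key, mul_add, mul_one, ← map_mul, ← mul_assoc, mul_comm x y, mul_assoc, mul_inv_cancel₀ hx, mul_one]

end Plane

end CfsgLib.RankOne.UnitaryUnique
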