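import Cfsg.Agent.Lib.RankOne.UnitaryUnique.Formula
import Cfsg.Agent.S0283

/-!
# The action of `SU(3,q)`, `q` even, on its isotropic points in Heisenberg coordinates

In the basis `e = (1,1,0)`, `f = (1+y,y,0)`, `m = (0,0,1)` with `y + σ y = 1` the isotropic points are `e`
and the `f + b e + c m` with `(c,b)` in the Heisenberg group; the translations fix `e`, and exchanging `e` and
`f` acts by the standard map.
-/

set_option autoImplicit false
set_option linter.unusedSectionVars false
set_option linter.style.haveILetI false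

namespace CfsgLib.RankOne.UnitaryUnique.Model

open Matrix CfsgLib.Classical CfsgLib.RankOne.UnitarySylow

variable {F : Type*} [Field F] [Fintype F] [CharP F 2] {σ : F →+* F} [hσ : Fact (IsConjugation σ)]
  {q : ℕ} [hq : Fact (Fintype.card F = q ^ 2 ∧ ∀ x, σ x = x ^ q)]

theorem add_self' (x : F) : x + x = 0 := CharTwo.add_self_eq_zero x

/-- An element of trace one. -/
noncomputable def y0 (σ : F →+* F) [hσ : Fact (IsConjugation σ)] : F :=
  (hσ.out.exists_trace_eq (map_one σ)).choose

theorem y0_spec : y0 σ + σ (y0 σ) = 1 := (hσ.out.exists_trace_eq (map_one σ)).choose_spec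

/-- The vector with given coordinates for the hyperbolic basis. -/
noncomputable def cmb (σ : F →+* F) [Fact (IsConjugation σ)] (a b c : F) : Fin 3 → F :=
  ![a + b * (1 + y0 σ), a + b * y0 σ, c]

theorem cmb_smul (l a b c : F) : l • cmb σ a b c = cmb σ (l * a) (l * b) (l * c) := by
  ext i; fin_cases i <;> simp [cmb] <;> ring

theorem cmb_inj {a b c a' b' c' : F} (h : cmb σ a b c = cmb σ a' b' c') : a = a' ∧ b = b' ∧ c = c' := by
  have h0 := congrFun h 0
  have h1 := congrFun h 1
  have h2 := congrFun h 2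
  simp [cmb] at h0 h1 h2
  have hb : b = b' := by linear_combination h0 - h1
  subst hb
  exact ⟨by linear_combination h1, rfl, h2⟩

theorem exists_cmb (u : Fin 3 → F) : ∃ a b c, u = cmb σ a b c := by
  refine ⟨u 1 + (u 0 + u 1) * y0 σ, u 0 + u 1, u 2, ?_⟩
  ext i
  fin_cases i <;> simp [cmb]
  · linear_combination -(u 1 + (u 0 + u 1) * y0 σ) * two0 (F := F)
  · linear_combination -((u 0 + u 1) * y0 σ) * two0 (F := F)

include hq in
theorem form_cmb (a b c a' b' c' : F) :
    Cfsg.hermForm 3 F q (cmb σ a b c) (cmb σ a' b' c') = a * σ b' + b * σ a' + c * σ c' := by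
  simp only [Cfsg.hermForm, ← hq.out.2]
  simp [cmb, Fin.sum_univ_three]
  have h := y0_spec (σ := σ)
  linear_combination (norm := (ring_nf; simp [two0 (F := F)])) (b * σ b') * h

include hq in
theorem form_smul (l k : F) (u v : Fin 3 → F) :
    Cfsg.hermForm 3 F q (l • u) (k • v) = l * σ k * Cfsg.hermForm 3 F q u v := by
  simp only [Cfsg.hermForm, ← hq.out.2, Finset.mul_sum]
  refine Finset.sum_congr rfl fun i _ => ?_
  simp only [Pi.smul_apply, smul_eq_mul, map_mul]
  ring

/-- The points. -/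
noncomputable def vec : Option (Heis σ) → (Fin 3 → F)
  | none => cmb σ 1 0 0
  | some g => cmb σ g.b 1 g.c

theorem vec_none : vec (none : Option (Heis σ)) = cmb σ 1 0 0 := rfl

theorem vec_some (g : Heis σ) : vec (some g) = cmb σ g.b 1 g.c := rfl

theorem vec_ne_zero (p : Option (Heis σ)) : vec p ≠ 0 := by
  intro h
  have h0 : cmb σ (0 : F) 0 0 = 0 := by ext i; fin_cases i <;> simp [cmb]
  rcases p with _ | g
  · exact one_ne_zero (cmb_inj (h.trans h0.symm)).1
  · exact one_ne_zero (cmb_inj (h.trans h0.symm)).2.1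

theorem vec_inj {p p' : Option (Heis σ)} {l k : F} (hl : l ≠ 0) (h : l • vec p = k • vec p') : p = p' := by
  rcases p with _ | g <;> rcases p' with _ | g' <;> simp only [vec_none, vec_some, cmb_smul] at h <;>
    obtain ⟨h1, h2, h3⟩ := cmb_inj h
  · rfl
  · simp only [mul_zero, mul_one] at h1 h2
    rw [← h2, zero_mul] at h1
    exact absurd h1 hl
  · simp only [mul_zero, mul_one] at h2
    exact absurd h2 hl
  · simp only [mul_one] at h2
    subst h2
    exact congrArg some (Heis.ext (mul_left_cancel₀ hl h3) (mul_left_cancel₀ hl h1))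

include hq in
theorem vec_isotropic (p : Option (Heis σ)) : Cfsg.hermForm 3 F q (vec p) (vec p) = 0 := by
  rcases p with _ | g
  · simp [vec_none, form_cmb (σ := σ) (q := q)]
  · rw [vec_some, form_cmb (σ := σ) (q := q), map_one]
    linear_combination g.hb + g.c * σ g.c * two0 (F := F)

include hq in
/-- Every isotropic vector lies on one of the points. -/
theorem exists_vec {u : Fin 3 → F} (hu : u ≠ 0) (h : Cfsg.hermForm 3 F q u u = 0) :
    ∃ (p : Option (Heis σ)) (l : F), l ≠ 0 ∧ u = l • vec p := by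
  obtain ⟨a, b, c, rfl⟩ := exists_cmb (σ := σ) u
  rw [form_cmb (σ := σ) (q := q)] at h
  by_cases hb : b = 0
  · subst hb
    simp only [map_zero, mul_zero, zero_mul, zero_add] at h
    have hc : c = 0 := (mul_eq_zero.1 h).elim id (map_eq_zero σ).1
    subst hc
    refine ⟨none, a, fun ha => hu ?_, by rw [vec_none, cmb_smul, mul_one, mul_zero]⟩
    subst ha
    ext i; fin_cases i <;> simp [cmb]
  · have hσb : σ b ≠ 0 := (map_ne_zero σ).2 hb
    refine ⟨some ⟨c / b, a / b, ?_⟩, b, hb, by
      rw [vec_some, cmb_smul, mul_one, mul_div_cancel₀ _ hb, mul_div_cancel₀ _ hb]⟩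
    rw [map_div₀, map_div₀]
    field_simp
    linear_combination h - c * σ c * two0 (F := F)

/-- The matrix of an element of `SU`. -/
abbrev mat (M : Cfsg.SU 3 F q) : Matrix (Fin 3) (Fin 3) F := (M.1 : Matrix (Fin 3) (Fin 3) F)

theorem mat_mul (M N : Cfsg.SU 3 F q) : mat (M * N) = mat M * mat N := rfl

theorem mat_form (M : Cfsg.SU 3 F q) (u v : Fin 3 → F) :
    Cfsg.hermForm 3 F q (mat M *ᵥ u) (mat M *ᵥ v) = Cfsg.hermForm 3 F q u v := M.2 u v

theorem mat_injective (M : Cfsg.SU 3 F q) : Function.Injective (mat M).mulVec := fun u v h => by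
  have h1 := congrArg (mat M⁻¹).mulVec h
  simp only [mulVec_mulVec] at h1
  rwa [← mat_mul, inv_mul_cancel, show mat (1 : Cfsg.SU 3 F q) = 1 from rfl, one_mulVec, one_mulVec] at h1

theorem mat_cmb (M : Cfsg.SU 3 F q) {a b c : F} {u v w : Fin 3 → F} (he : mat M *ᵥ cmb σ 1 0 0 = u)
    (hf : mat M *ᵥ cmb σ 0 1 0 = v) (hm : mat M *ᵥ cmb σ 0 0 1 = w) :
    mat M *ᵥ cmb σ a b c = a • u + b • v + c • w := by
  have e : cmb σ a b c = a • cmb σ 1 0 0 + b • cmb σ 0 1 0 + c • cmb σ 0 0 1 := by
    ext i; fin_cases i <;> simp [cmb]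
  rw [e, mulVec_add, mulVec_add, mulVec_smul, mulVec_smul, mulVec_smul, he, hf, hm]

theorem smul_add_cmb (a b c a' b' c' : F) : cmb σ a b c + cmb σ a' b' c' = cmb σ (a + a') (b + b') (c + c') := by
  ext i; fin_cases i <;> simp [cmb] <;> ring

theorem exists_image (M : Cfsg.SU 3 F q) (p : Option (Heis σ)) :
    ∃ (p' : Option (Heis σ)) (l : F), l ≠ 0 ∧ mat M *ᵥ vec p = l • vec p' :=
  exists_vec (σ := σ) (fun h => vec_ne_zero p (mat_injective M (h.trans (mulVec_zero _).symm)))
    (by rw [mat_form, vec_isotropic])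

/-- The image of a point. -/
noncomputable def imageFun (M : Cfsg.SU 3 F q) (p : Option (Heis σ)) : Option (Heis σ) :=
  (exists_image M p).choose

theorem imageFun_eq {M : Cfsg.SU 3 F q} {p p' : Option (Heis σ)} {l : F}
    (h : mat M *ᵥ vec p = l • vec p') : imageFun M p = p' := by
  obtain ⟨k, hk, hk'⟩ := (exists_image M p).choose_spec
  exact vec_inj hk (hk'.symm.trans h)

theorem imageFun_mul (M N : Cfsg.SU 3 F q) (p : Option (Heis σ)) :
    imageFun (M * N) p = imageFun M (imageFun N p) := by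
  obtain ⟨l, -, hl'⟩ := (exists_image N p).choose_spec
  obtain ⟨k, -, hk'⟩ := (exists_image M (imageFun N p)).choose_spec
  refine imageFun_eq (l := l * k) ?_
  rw [mat_mul, ← mulVec_mulVec, show mat N *ᵥ vec p = l • vec (imageFun N p) from hl', mulVec_smul,
    show mat M *ᵥ vec (imageFun N p) = k • vec (imageFun M (imageFun N p)) from hk', smul_smul]

theorem imageFun_one (p : Option (Heis σ)) : imageFun (1 : Cfsg.SU 3 F q) p = p :=
  imageFun_eq (l := 1) (by rw [show mat (1 : Cfsg.SU 3 F q) = 1 from rfl, one_mulVec, one_smul])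

variable (σ q) in
/-- The action on the points. -/
noncomputable def act : Cfsg.SU 3 F q →* Equiv.Perm (Option (Heis σ)) where
  toFun M :=
    { toFun := imageFun M
      invFun := imageFun M⁻¹
      left_inv := fun p => by rw [← imageFun_mul, inv_mul_cancel, imageFun_one]
      right_inv := fun p => by rw [← imageFun_mul, mul_inv_cancel, imageFun_one] }
  map_one' := Equiv.ext imageFun_one
  map_mul' M N := Equiv.ext (imageFun_mul M N)

theorem act_eq {M : Cfsg.SU 3 F q} {p p' : Option (Heis σ)} {l : F}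
    (h : mat M *ᵥ vec p = l • vec p') : act σ q M p = p' := imageFun_eq h

theorem act_spec (M : Cfsg.SU 3 F q) (p : Option (Heis σ)) :
    ∃ l : F, l ≠ 0 ∧ mat M *ᵥ vec p = l • vec (act σ q M p) := (exists_image M p).choose_spec

variable (σ q) in
/-- The translations. -/
def trans : Heis σ →* Cfsg.SU 3 F q :=
  (repSL (σ := σ)).codRestrict _ (repSL_mem (σ := σ) (q := q))

theorem trans_cmb (g : Heis σ) (a b c : F) :
    mat (trans σ q g) *ᵥ cmb σ a b c = cmb σ (a + b * g.b + σ g.c * c) b (c + b * g.c) := by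
  change repMat g *ᵥ cmb σ a b c = _
  ext i
  fin_cases i <;>
    simp [repMat, cmb, Matrix.mulVec, dotProduct, Fin.sum_univ_three] <;>
    ring_nf <;> simp [two0 (F := F)]

theorem act_trans_none (g : Heis σ) : act σ q (trans σ q g) none = none :=
  act_eq (l := 1) (by rw [vec_none, trans_cmb, one_smul]; simp)

theorem act_trans_some (g x : Heis σ) : act σ q (trans σ q g) (some x) = some (g * x) :=
  act_eq (l := 1) (by
    rw [vec_some, trans_cmb, one_smul, vec_some, mul_b, mul_c]
    congr 1 <;> ring)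

/-- The matrix exchanging the two base points. -/
noncomputable def swapMat (σ : F →+* F) [Fact (IsConjugation σ)] : Matrix (Fin 3) (Fin 3) F :=
  !![1 + y0 σ + y0 σ ^ 2, y0 σ ^ 2, 0; 1 + y0 σ ^ 2, 1 + y0 σ + y0 σ ^ 2, 0; 0, 0, 1]

theorem swapMat_cmb (a b c : F) : swapMat σ *ᵥ cmb σ a b c = cmb σ b a c := by
  ext i
  fin_cases i <;>
    simp [swapMat, cmb, Matrix.mulVec, dotProduct, Fin.sum_univ_three] <;>
    ring_nf <;> simp [two0 (F := F)]

theorem swapMat_det : (swapMat σ).det = 1 := by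
  rw [swapMat, Matrix.det_fin_three]
  simp
  ring_nf
  simp [two0 (F := F)]

variable (σ q) in
/-- The exchange of the two base points. -/
noncomputable def swap : Cfsg.SU 3 F q :=
  ⟨⟨swapMat σ, swapMat_det⟩, fun u v => by
    change Cfsg.hermForm 3 F q (swapMat σ *ᵥ u) (swapMat σ *ᵥ v) = Cfsg.hermForm 3 F q u v
    obtain ⟨a, b, c, rfl⟩ := exists_cmb (σ := σ) u
    obtain ⟨a', b', c', rfl⟩ := exists_cmb (σ := σ) v
    rw [swapMat_cmb, swapMat_cmb, form_cmb (σ := σ) (q := q), form_cmb (σ := σ) (q := q)]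
    ring⟩

theorem swap_cmb (a b c : F) : mat (swap σ q) *ᵥ cmb σ a b c = cmb σ b a c := swapMat_cmb a b c

theorem act_swap_none : act σ q (swap σ q) none = some (1 : Heis σ) :=
  act_eq (l := 1) (by rw [vec_none, swap_cmb, one_smul, vec_some, one_b, one_c])

theorem act_swap_one : act σ q (swap σ q) (some (1 : Heis σ)) = none :=
  act_eq (l := 1) (by rw [vec_some, swap_cmb, one_smul, vec_none, one_b, one_c])

theorem act_swap_some {g : Heis σ} (hg : g ≠ 1) : act σ q (swap σ q) (some g) = some (flip g) := by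
  have hb : g.b ≠ 0 := fun h => hg (eq_one_of_b h)
  exact act_eq (l := g.b) (by
    rw [vec_some, swap_cmb, vec_some, cmb_smul, flip_b, flip_c, mul_inv_cancel₀ hb, mul_one,
      mul_div_cancel₀ _ hb])

theorem exists_ne_one : ∃ g : Heis σ, g ≠ 1 ∧ g.c = 1 := by
  obtain ⟨g, hg⟩ := exists_elt (σ := σ) 1
  refine ⟨g, ?_, hg⟩
  rintro rfl
  exact zero_ne_one ((one_c (σ := σ)).symm.trans hg)

theorem mem_ker_of_center {z : Cfsg.SU 3 F q} (hz : z ∈ Subgroup.center (Cfsg.SU 3 F q)) :
    act σ q z = 1 := by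
  have hc : ∀ M p, act σ q z (act σ q M p) = act σ q M (act σ q z p) := fun M p => by
    have e := congrArg (act σ q) (Subgroup.mem_center_iff.1 hz M)
    rw [map_mul, map_mul] at e
    exact (DFunLike.congr_fun e p).symm
  have h0 : act σ q z none = none := by
    rcases hp : act σ q z none with _ | x
    · rfl
    · obtain ⟨g, hg, -⟩ := exists_ne_one (σ := σ)
      have h := hc (trans σ q g) none
      rw [act_trans_none, hp, act_trans_some, Option.some.injEq] at h
      exact absurd (mul_eq_right.1 h.symm) hg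
  have h1 : act σ q z (some 1) = some (1 : Heis σ) := by
    have h := hc (swap σ q) none
    rwa [act_swap_none, h0, act_swap_none] at h
  refine Equiv.ext fun p => ?_
  rcases p with _ | g
  · exact h0
  · have h := hc (trans σ q g) (some 1)
    rwa [act_trans_some, h1, act_trans_some, mul_one] at h

/-- An element fixing the two base points is diagonal. -/
theorem diag_of_fix {M : Cfsg.SU 3 F q} (he : act σ q M none = none)
    (hf : act σ q M (some 1) = some (1 : Heis σ)) :
    ∃ l1 l2 l3 : F, l1 * σ l2 = 1 ∧ l3 * σ l3 = 1 ∧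
      ∀ a b c, mat M *ᵥ cmb σ a b c = cmb σ (l1 * a) (l2 * b) (l3 * c) := by
  obtain ⟨l1, hl1, h1⟩ := act_spec (σ := σ) M none
  obtain ⟨l2, hl2, h2⟩ := act_spec (σ := σ) M (some 1)
  rw [he, vec_none, cmb_smul, mul_one, mul_zero] at h1
  rw [hf, vec_some, one_b, one_c, cmb_smul, mul_one, mul_zero] at h2
  obtain ⟨x1, x2, x3, h3⟩ := exists_cmb (σ := σ) (mat M *ᵥ cmb σ 0 0 1)
  have hform : ∀ a b c a' b' c', Cfsg.hermForm 3 F q (mat M *ᵥ cmb σ a b c) (mat M *ᵥ cmb σ a' b' c') =
      a * σ b' + b * σ a' + c * σ c' := fun a b c a' b' c' => by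
    rw [mat_form, form_cmb (σ := σ) (q := q)]
  have e12 := hform 1 0 0 0 1 0
  have e31 := hform 0 0 1 1 0 0
  have e32 := hform 0 0 1 0 1 0
  have e33 := hform 0 0 1 0 0 1
  rw [h1, h2, form_cmb (σ := σ) (q := q)] at e12
  rw [h1, h3, form_cmb (σ := σ) (q := q)] at e31
  rw [h2, h3, form_cmb (σ := σ) (q := q)] at e32
  rw [h3, form_cmb (σ := σ) (q := q)] at e33
  simp only [map_zero, map_one, mul_zero, zero_mul, add_zero, zero_add, mul_one] at e12 e31 e32 e33
  have hx2 : x2 = 0 := (mul_eq_zero.1 e31).resolve_right ((map_ne_zero σ).2 hl1)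
  have hx1 : x1 = 0 := (mul_eq_zero.1 e32).resolve_right ((map_ne_zero σ).2 hl2)
  subst hx2 hx1
  simp only [map_zero, mul_zero, zero_mul, zero_add] at e33
  refine ⟨l1, l2, x3, e12, e33, fun a b c => ?_⟩
  rw [mat_cmb M h1 h2 h3, cmb_smul, cmb_smul, cmb_smul, smul_add_cmb, smul_add_cmb]
  congr 1 <;> ring

theorem center_of_mem_ker {M : Cfsg.SU 3 F q} (hM : act σ q M = 1) :
    M ∈ Subgroup.center (Cfsg.SU 3 F q) := by
  obtain ⟨l1, l2, l3, -, -, hd⟩ := diag_of_fix (σ := σ) (M := M) (by rw [hM]; rfl) (by rw [hM]; rfl)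
  obtain ⟨g, hg1, hgc⟩ := exists_ne_one (σ := σ)
  obtain ⟨k, -, hk⟩ := act_spec (σ := σ) M (some g)
  rw [hM, Equiv.Perm.one_apply, vec_some, hd, cmb_smul, hgc] at hk
  obtain ⟨e1, e2, e3⟩ := cmb_inj hk
  simp only [mul_one] at e2 e3
  have e1' : l1 = k := mul_right_cancel₀ (fun h => hg1 (eq_one_of_b h)) e1
  have hs : ∀ u, mat M *ᵥ u = k • u := fun u => by
    obtain ⟨a, b, c, rfl⟩ := exists_cmb (σ := σ) u
    rw [hd, cmb_smul, e1', e2, e3]
  refine Subgroup.mem_center_iff.2 fun N => ?_
  refine Subtype.ext (Subtype.ext ?_)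
  change mat N * mat M = mat M * mat N
  refine Matrix.toLin'.injective (LinearMap.ext fun u => ?_)
  simp only [Matrix.toLin'_apply, ← mulVec_mulVec, hs, mulVec_smul]

theorem ker_act : (act σ q).ker = Subgroup.center (Cfsg.SU 3 F q) :=
  le_antisymm (fun _ h => center_of_mem_ker (MonoidHom.mem_ker.1 h))
    fun _ h => MonoidHom.mem_ker.2 (mem_ker_of_center h)

/-- An element fixing the two base points normalises the translations. -/
theorem conj_trans_of_fix {M : Cfsg.SU 3 F q} (he : act σ q M none = none)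
    (hf : act σ q M (some 1) = some (1 : Heis σ)) (g : Heis σ) :
    ∃ g', act σ q (M * trans σ q g) = act σ q (trans σ q g' * M) := by
  obtain ⟨l1, l2, l3, h12, h33, hd⟩ := diag_of_fix he hf
  have hl2 : l2 ≠ 0 := fun h => by simp [h] at h12
  have hσ2 : σ l2 ≠ 0 := (map_ne_zero σ).2 hl2
  have hl1 : l1 = (σ l2)⁻¹ := eq_inv_of_mul_eq_one_left h12
  have himg : ∀ x : Heis σ, ∃ x' : Heis σ, act σ q M (some x) = some x' ∧
      x'.b = l1 / l2 * x.b ∧ x'.c = l3 / l2 * x.c := by
    intro x
    obtain ⟨k, hk, h⟩ := act_spec (σ := σ) M (some x)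
    rw [vec_some, hd] at h
    rcases hp : act σ q M (some x) with _ | x'
    · rw [hp, vec_none, cmb_smul] at h
      obtain ⟨-, e, -⟩ := cmb_inj h
      simp only [mul_one, mul_zero] at e
      exact absurd e hl2
    · rw [hp, vec_some, cmb_smul] at h
      obtain ⟨e1, e2, e3⟩ := cmb_inj h
      simp only [mul_one] at e2
      subst e2
      exact ⟨x', rfl, by field_simp; linear_combination -e1, by field_simp; linear_combination -e3⟩
  have hmul : ∀ x y x' y' z' : Heis σ, x'.b = l1 / l2 * x.b → x'.c = l3 / l2 * x.c →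
      y'.b = l1 / l2 * y.b → y'.c = l3 / l2 * y.c → z'.b = l1 / l2 * (x * y).b →
      z'.c = l3 / l2 * (x * y).c → z' = x' * y' := by
    intro x y x' y' z' hxb hxc hyb hyc hzb hzc
    refine Heis.ext ?_ ?_
    · rw [hzc, mul_c, mul_c, hxc, hyc]; ring
    · rw [hzb, mul_b, mul_b, hxb, hyb, hxc, hyc, map_mul, map_div₀, hl1]
      field_simp
      linear_combination -(σ x.c * y.c) * h33
  obtain ⟨g', -, hgb, hgc⟩ := himg g
  refine ⟨g', Equiv.ext fun p => ?_⟩
  rw [map_mul, map_mul, Equiv.Perm.mul_apply, Equiv.Perm.mul_apply]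
  rcases p with _ | x
  · rw [act_trans_none, he, act_trans_none]
  · obtain ⟨x', hx, hxb, hxc⟩ := himg x
    obtain ⟨z', hz, hzb, hzc⟩ := himg (g * x)
    rw [act_trans_some, hz, hx, act_trans_some, hmul g x g' x' z' hgb hgc hxb hxc hzb hzc]

end CfsgLib.RankOne.UnitaryUnique.Model
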