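import Cfsg.Agent.Lib.RankOne.UnitaryUnique.Basics

/-!
# Lines of the plane whose images are closed under translation by their points

The image of each affine line missing the origin, together with zero, is translated by each of its points to
another such set.  A rotation then gives centres, and the lines through two chosen vectors of a common scale
give a conic.
-/

set_option autoImplicit false
set_option linter.style.haveILetI false
set_option linter.unusedSectionVars false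

namespace CfsgLib.RankOne.UnitaryUnique

open CfsgLib.Classical CfsgLib.RankOne.UnitarySylow

variable {F : Type*} [Field F] [CharP F 2] {σ : F →+* F}

/-- A coordinate function on the plane. -/
structure Plane (C : Fix σ × Fix σ → F) (φ : Fix σ →*₀ Fix σ) (ε : F) : Prop where
  zero : C 0 = 0
  inj : Function.Injective C
  surj : Function.Surjective C
  φ_inj : Function.Injective φ
  homog : ∀ a : Fix σ, a ≠ 0 → ∀ v, C (a • v) = ((φ a : F))⁻¹ * C v
  key : ∀ p v, det p v = 1 → ∃ (Y : Fix σ × Fix σ) (τ : Fix σ ≃+* Fix σ), det p Y ≠ 0 ∧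
    ∀ ζ : Fix σ, ζ ≠ 0 → C (p + ζ • v) + C p = C (p + τ ζ⁻¹ • Y)
  rot : ∃ T : Fix σ × Fix σ → Fix σ × Fix σ,
    (∀ v w, det (T v) (T w) = det v w) ∧ ∀ v, C (T v) = ε * C v
  ε_norm : ε * σ ε = 1
  ε_ne : ε ≠ 1

variable [Fintype F] {q : ℕ} [hσ : Fact (IsConjugation σ)] [hq : Fact (Fintype.card F = q ^ 2 ∧ ∀ x, σ x = x ^ q)]

include hq in
theorem even_q : Even q := by
  obtain ⟨n, -, hn⟩ := FiniteField.card F 2
  have h2 : 2 ∣ q ^ 2 := hq.out.1 ▸ hn ▸ dvd_pow_self 2 n.pos.ne'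
  exact even_iff_two_dvd.2 (Nat.prime_two.dvd_of_dvd_pow h2)

include hq in
theorem card_Fix : Nat.card (Fix σ) = q := card_fix (σ := σ) (q := q)

include hq in
theorem q_pos : 2 ≤ q := by
  have := card_Fix (σ := σ) (q := q)
  haveI : Nontrivial (Fix σ) := inferInstance
  have h := Finite.one_lt_card (α := Fix σ)
  omega

include hq in
theorem pow_fix {a : Fix σ} (ha : a ≠ 0) : a ^ (q - 1) = 1 := by
  haveI := Fintype.ofFinite (Fix σ)
  have := FiniteField.pow_card_sub_one_eq_one a ha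
  rwa [← Nat.card_eq_fintype_card, card_Fix (σ := σ) (q := q)] at this

include hq in
theorem pow_norm_one {ε : F} (h : ε * σ ε = 1) : ε ^ (q + 1) = 1 := by
  rw [pow_succ', ← hq.out.2]; exact h

variable [DecidableEq F]

noncomputable local instance : Fintype (Fix σ) := Fintype.ofFinite _

/-- The points of the line of `v` and zero. -/
noncomputable def Gam (C : Fix σ × Fix σ → F) (v : Fix σ × Fix σ) : Finset F :=
  insert 0 ((Finset.univ.filter fun p => det p v = 1).image C)

/-- The centre. -/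
noncomputable def Zc (C : Fix σ × Fix σ → F) (v : Fix σ × Fix σ) : F := ∑ x ∈ Gam C v, x

/-- The centred set. -/
noncomputable def Oc (C : Fix σ × Fix σ → F) (v : Fix σ × Fix σ) : Finset F := (Gam C v).image (· + Zc C v)

namespace Plane

variable {C : Fix σ × Fix σ → F} {φ : Fix σ →*₀ Fix σ} {ε : F} (P : Plane C φ ε)
include P

theorem ne_zero {v : Fix σ × Fix σ} (hv : v ≠ 0) : C v ≠ 0 := fun h => hv (P.inj (h.trans P.zero.symm))

theorem φ_ne {a : Fix σ} (ha : a ≠ 0) : (φ a : F) ≠ 0 := by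
  intro h
  exact ha (P.φ_inj ((Subtype.ext h : φ a = 0).trans (map_zero φ).symm))

theorem mem_Gam {v : Fix σ × Fix σ} {x : F} : x ∈ Gam C v ↔ x = 0 ∨ ∃ p, det p v = 1 ∧ C p = x := by
  simp [Gam]

theorem zero_mem_Gam (v : Fix σ × Fix σ) : (0 : F) ∈ Gam C v := P.mem_Gam.2 (Or.inl rfl)

theorem line_ne {p v : Fix σ × Fix σ} (h : det p v = 1) : p ≠ 0 := by
  rintro rfl
  rw [det_zero_left] at h
  exact zero_ne_one h

include hq in
theorem card_Gam {v : Fix σ × Fix σ} (hv : v ≠ 0) : (Gam C v).card = q + 1 := by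
  obtain ⟨p, hp⟩ := exists_det_one hv
  rw [Gam, Finset.card_insert_of_notMem ?_, Finset.card_image_of_injective _ P.inj]
  · have e : (Finset.univ.filter fun p' => det p' v = 1) = (Finset.univ : Finset (Fix σ)).image fun s => p + s • v := by
      ext p'
      simp only [Finset.mem_filter, Finset.mem_univ, true_and, Finset.mem_image]
      exact ⟨fun h => ⟨_, (line_param hp h).symm⟩, fun ⟨s, e⟩ => by rw [← e, det_line, hp]⟩
    rw [e, Finset.card_image_of_injective _ fun s s' e => line_inj hv e, Finset.card_univ,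
      ← Nat.card_eq_fintype_card, card_Fix (σ := σ) (q := q)]
  · simp only [Finset.mem_image, Finset.mem_filter, Finset.mem_univ, true_and, not_exists, not_and]
    exact fun p hp h => P.ne_zero (P.line_ne hp) h

include hq in
theorem odd_Gam {v : Fix σ × Fix σ} (hv : v ≠ 0) : Odd (Gam C v).card := by
  rw [P.card_Gam (q := q) hv]
  exact (even_q (σ := σ) (q := q)).add_one

theorem add_mem_Oc {v : Fix σ × Fix σ} {x : F} (h : x ∈ Gam C v) :
    x + Zc C v ∈ Oc C v := by
  exact Finset.mem_image_of_mem _ h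

theorem mem_Oc {v : Fix σ × Fix σ} {x : F} (h : x ∈ Oc C v) :
    x + Zc C v ∈ Gam C v := by
  obtain ⟨y, hy, rfl⟩ := Finset.mem_image.1 h
  rwa [add_assoc, CharTwo.add_self_eq_zero, add_zero]

theorem Zc_mem_Oc (v : Fix σ × Fix σ) : Zc C v ∈ Oc C v := by
  have := P.add_mem_Oc (P.zero_mem_Gam v)
  rwa [zero_add] at this

include hq in
/-- Translation by a point. -/
theorem exists_translate {p v : Fix σ × Fix σ} (h : det p v = 1) :
    ∃ v', v' ≠ 0 ∧ Zc C v' = Zc C v + C p ∧ Oc C v' = Oc C v := by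
  obtain ⟨Y, τ, hδ, hk⟩ := P.key p v h
  set v' := (det p Y)⁻¹ • Y with hv'
  have h' : det p v' = 1 := by rw [hv', det_smul_right, inv_mul_cancel₀ hδ]
  have hne : v' ≠ 0 := fun e => by rw [e, det_zero_right] at h'; exact zero_ne_one h'
  have hv : v ≠ 0 := fun e => by rw [e, det_zero_right] at h; exact zero_ne_one h
  have hline : ∀ s : Fix σ, det (p + s • Y) v' = 1 := fun s => by
    rw [det_add_left, h', det_smul_left, hv', det_smul_right, det_self, mul_zero, mul_zero, add_zero]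
  have hG : (Gam C v).image (· + C p) = Gam C v' := by
    refine Finset.eq_of_subset_of_card_le ?_ ?_
    · intro x hx
      obtain ⟨y, hy, rfl⟩ := Finset.mem_image.1 hx
      rcases P.mem_Gam.1 hy with rfl | ⟨p', hp', rfl⟩
      · rw [zero_add]
        exact P.mem_Gam.2 (Or.inr ⟨p, h', rfl⟩)
      · have e : p' = p + det p p' • v := line_param h hp'
        by_cases h0 : det p p' = 0
        · rw [e, h0, zero_smul, add_zero, CharTwo.add_self_eq_zero]
          exact P.zero_mem_Gam _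
        · rw [e, hk _ h0]
          exact P.mem_Gam.2 (Or.inr ⟨_, hline _, rfl⟩)
    · rw [Finset.card_image_of_injective _ (add_left_injective _), P.card_Gam (q := q) hv, P.card_Gam (q := q) hne]
  have hZ : Zc C v' = Zc C v + C p := by
    rw [Zc, Zc, ← hG, Finset.sum_image fun a _ b _ e => add_right_cancel e, Finset.sum_add_distrib, Finset.sum_const,
      odd_smul (P.odd_Gam (q := q) hv)]
  refine ⟨v', hne, hZ, ?_⟩
  rw [Oc, Oc, ← hG, Finset.image_image]
  refine Finset.image_congr fun x _ => ?_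
  show x + C p + Zc C v' = x + Zc C v
  rw [hZ]
  linear_combination C p * CharTwo.two_eq_zero (R := F)

theorem smul_ne {a : Fix σ} {v : Fix σ × Fix σ} (ha : a ≠ 0) (hv : v ≠ 0) : a • v ≠ 0 := smul_ne_zero ha hv

/-- Scaling. -/
theorem Gam_smul {a : Fix σ} (ha : a ≠ 0) (v : Fix σ × Fix σ) :
    Gam C (a • v) = (Gam C v).image ((φ a : F) * ·) := by
  ext x
  rw [P.mem_Gam, Finset.mem_image]
  constructor
  · rintro (rfl | ⟨p, hp, rfl⟩)
    · exact ⟨0, P.zero_mem_Gam v, mul_zero _⟩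
    · refine ⟨C (a • p), P.mem_Gam.2 (Or.inr ⟨a • p, ?_, rfl⟩), ?_⟩
      · rw [det_smul_left, ← det_smul_right, hp]
      · rw [P.homog a ha, ← mul_assoc, mul_inv_cancel₀ (P.φ_ne ha), one_mul]
  · rintro ⟨y, hy, rfl⟩
    rcases P.mem_Gam.1 hy with rfl | ⟨p, hp, rfl⟩
    · exact Or.inl (mul_zero _)
    · refine Or.inr ⟨a⁻¹ • p, ?_, ?_⟩
      · rw [det_smul_left, det_smul_right, ← mul_assoc, inv_mul_cancel₀ ha, one_mul, hp]
      · rw [P.homog a⁻¹ (inv_ne_zero ha), map_inv₀]
        simp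

theorem Zc_smul {a : Fix σ} (ha : a ≠ 0) (v : Fix σ × Fix σ) :
    Zc C (a • v) = (φ a : F) * Zc C v := by
  rw [Zc, Zc, P.Gam_smul ha v, Finset.sum_image fun x _ y _ e => mul_left_cancel₀ (P.φ_ne ha) e, Finset.mul_sum]

theorem Oc_smul {a : Fix σ} (ha : a ≠ 0) (v : Fix σ × Fix σ) :
    Oc C (a • v) = (Oc C v).image ((φ a : F) * ·) := by
  ext x
  simp only [Oc, P.Gam_smul ha v, P.Zc_smul ha v, Finset.mem_image, exists_exists_and_eq_and]
  constructor
  · rintro ⟨y, hy, rfl⟩; exact ⟨y, hy, mul_add _ _ _⟩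
  · rintro ⟨y, hy, rfl⟩; exact ⟨y, hy, (mul_add _ _ _).symm⟩

include hq in
theorem card_Oc {v : Fix σ × Fix σ} (hv : v ≠ 0) : (Oc C v).card = q + 1 := by
  rw [Oc, Finset.card_image_of_injective _ (add_left_injective _), P.card_Gam (q := q) hv]

include hq in
/-- A multiplier of the fixed field fixing a centred set is one. -/
theorem mult_eq_one {v : Fix σ × Fix σ} (hv : v ≠ 0) {ν : F}
    (h : (Oc C v).image (ν * ·) = Oc C v) :
    ν ^ (q + 1) = 1 ∨ (ν ^ q = 1 ∧ (0 : F) ∈ Oc C v) := by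
  have hν : ν ≠ 0 := by
    rintro rfl
    have h1 := congrArg Finset.card h
    rw [P.card_Oc (q := q) hv] at h1
    have h2 : ((Oc C v).image fun x => (0 : F) * x).card ≤ 1 :=
      (Finset.card_le_card (t := {0}) (fun x hx => by
        obtain ⟨y, -, rfl⟩ := Finset.mem_image.1 hx
        simp)).trans (Finset.card_singleton _).le
    have := q_pos (σ := σ) (q := q)
    omega
  by_cases h0 : (0 : F) ∈ Oc C v
  · refine Or.inr ⟨?_, h0⟩
    have h' : ((Oc C v).erase 0).image (ν * ·) = (Oc C v).erase 0 := by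
      rw [Finset.image_erase (mul_right_injective₀ hν), h, mul_zero]
    have := pow_card_eq_one_of_invariant (Finset.notMem_erase 0 _) h' hν
    rwa [Finset.card_erase_of_mem h0, P.card_Oc (q := q) hv, Nat.add_sub_cancel] at this
  · refine Or.inl ?_
    have := pow_card_eq_one_of_invariant h0 h hν
    rwa [P.card_Oc (q := q) hv] at this

include hq in
theorem eq_one_of_pow {x : F} (h : x ^ (q + 1) = 1 ∨ x ^ q = 1) (hx : x ^ (q - 1) = 1) : x = 1 := by
  have h2 := q_pos (σ := σ) (q := q)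
  have he := even_q (σ := σ) (q := q)
  have hcop : Nat.Coprime (q + 1) (q - 1) := by
    obtain ⟨k, hk⟩ := he
    rw [show q + 1 = 2 + (q - 1) by omega, Nat.coprime_add_self_left]
    exact Nat.coprime_two_left.2 ⟨k - 1, by omega⟩
  have hcop' : Nat.Coprime q (q - 1) := by
    rw [Nat.coprime_comm]
    exact (Nat.coprime_self_sub_left (by omega : 1 ≤ q)).2 (Nat.coprime_one_left q)
  rcases h with h | h
  · exact (pow_eq_one_iff_of_coprime hcop ⟨h, hx⟩)
  · exact (pow_eq_one_iff_of_coprime hcop' ⟨h, hx⟩)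
where
  pow_eq_one_iff_of_coprime {a b : ℕ} (hc : Nat.Coprime a b) (h : x ^ a = 1 ∧ x ^ b = 1) : x = 1 := by
    have := pow_gcd_eq_one.2 h
    rwa [hc, pow_one] at this

include hq in
/-- A unit of the fixed field fixing a centred set is one. -/
theorem fix_eq_one {v : Fix σ × Fix σ} (hv : v ≠ 0) {a : Fix σ} (ha : a ≠ 0)
    (h : Oc C (a • v) = Oc C v) : a = 1 := by
  rw [P.Oc_smul ha v] at h
  have hne : (φ a) ≠ 0 := fun e => P.φ_ne ha (congrArg Subtype.val e)
  have hp : ((φ a : Fix σ) : F) ^ (q - 1) = 1 := congrArg Subtype.val (pow_fix (σ := σ) (q := q) hne)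
  have := P.eq_one_of_pow (q := q) ((P.mult_eq_one (q := q) hv h).imp_right And.left) hp
  exact P.φ_inj ((Subtype.ext this : φ a = 1).trans (map_one φ).symm)

include hq in
/-- One orbit of centred sets: the main counting step. -/
theorem exists_scale {v₀ : Fix σ × Fix σ} (hv₀ : v₀ ≠ 0) :
    (∀ v : Fix σ × Fix σ, v ≠ 0 → ∃ a : Fix σ, a ≠ 0 ∧ Oc C v = Oc C (a • v₀)) ∧
      (∀ o ∈ Oc C v₀, ∃ w, w ≠ 0 ∧ Oc C w = Oc C v₀ ∧ Zc C w = o) ∧
      ∀ v w : Fix σ × Fix σ, v ≠ 0 → w ≠ 0 → Oc C v = Oc C w → Zc C v = Zc C w →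
        v = w := by
  have hall : ∀ o ∈ Oc C v₀, ∃ w, w ≠ 0 ∧ Oc C w = Oc C v₀ ∧ Zc C w = o := by
    intro o ho
    rcases P.mem_Gam.1 (P.mem_Oc ho) with h0 | ⟨p, hp, e⟩
    · exact ⟨v₀, hv₀, rfl, (CharTwo.add_eq_zero.1 h0).symm⟩
    · obtain ⟨w, hw, hZ, hO⟩ := P.exists_translate (q := q) hp
      refine ⟨w, hw, hO, ?_⟩
      rw [hZ, e]
      linear_combination Zc C v₀ * CharTwo.two_eq_zero (R := F)
  choose w hw hwO hwZ using hall
  let g : {a : Fix σ // a ≠ 0} × {o // o ∈ Oc C v₀} → {v : Fix σ × Fix σ // v ≠ 0} :=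
    fun x => ⟨x.1.1 • w x.2.1 x.2.2, smul_ne_zero x.1.2 (hw _ x.2.2)⟩
  have hg : Function.Injective g := by
    rintro ⟨⟨a, ha⟩, o, ho⟩ ⟨⟨a', ha'⟩, o', ho'⟩ e
    have e' : a • w o ho = a' • w o' ho' := congrArg Subtype.val e
    have h1 := congrArg (Oc C) e'
    rw [P.Oc_smul ha, P.Oc_smul ha', hwO, hwO, ← P.Oc_smul ha, ← P.Oc_smul ha'] at h1
    have h2 := P.fix_eq_one (q := q) (smul_ne_zero ha' hv₀) (mul_ne_zero ha (inv_ne_zero ha'))
      (by rw [smul_smul, mul_assoc, inv_mul_cancel₀ ha', mul_one]; exact h1)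
    obtain rfl : a = a' := (mul_inv_eq_one₀ ha').1 h2
    have h3 : w o ho = w o' ho' := smul_right_injective _ ha e'
    obtain rfl : o = o' := by rw [← hwZ o ho, h3, hwZ]
    rfl
  have hcard : Nat.card ({a : Fix σ // a ≠ 0} × {o // o ∈ Oc C v₀}) =
      Nat.card {v : Fix σ × Fix σ // v ≠ 0} := by
    have hq2 := q_pos (σ := σ) (q := q)
    rw [Nat.card_prod, Nat.card_eq_fintype_card, Nat.card_eq_fintype_card (α := {o // o ∈ _}),
      Nat.card_eq_fintype_card, Fintype.card_subtype_compl, Fintype.card_subtype_compl,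
      Fintype.card_subtype_eq, Fintype.card_subtype_eq, Fintype.card_coe, P.card_Oc (q := q) hv₀,
      Fintype.card_prod, ← Nat.card_eq_fintype_card, card_Fix (σ := σ) (q := q)]
    obtain ⟨m, rfl⟩ := Nat.exists_eq_add_of_le hq2
    zify [show 1 ≤ 2 + m by omega, show 1 ≤ (2 + m) * (2 + m) by nlinarith]
    ring
  have hsurj := ((Nat.bijective_iff_injective_and_card g).2 ⟨hg, hcard⟩).2
  refine ⟨fun v hv => ?_, fun o ho => ⟨w o ho, hw o ho, hwO o ho, hwZ o ho⟩, fun v v' hv hv' hO hZ => ?_⟩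
  · obtain ⟨⟨⟨a, ha⟩, o, ho⟩, e⟩ := hsurj ⟨v, hv⟩
    have e' : a • w o ho = v := congrArg Subtype.val e
    refine ⟨a, ha, ?_⟩
    rw [← e', P.Oc_smul ha, P.Oc_smul ha, hwO]
  · obtain ⟨⟨⟨a, ha⟩, o, ho⟩, e⟩ := hsurj ⟨v, hv⟩
    obtain ⟨⟨⟨a', ha'⟩, o', ho'⟩, e'⟩ := hsurj ⟨v', hv'⟩
    obtain rfl : a • w o ho = v := congrArg Subtype.val e
    obtain rfl : a' • w o' ho' = v' := congrArg Subtype.val e'
    rw [P.Oc_smul ha, P.Oc_smul ha', hwO, hwO, ← P.Oc_smul ha, ← P.Oc_smul ha'] at hO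
    have h2 := P.fix_eq_one (q := q) (smul_ne_zero ha' hv₀) (mul_ne_zero ha (inv_ne_zero ha'))
      (by rw [smul_smul, mul_assoc, inv_mul_cancel₀ ha', mul_one]; exact hO)
    obtain rfl : a = a' := (mul_inv_eq_one₀ ha').1 h2
    rw [P.Zc_smul ha, P.Zc_smul ha, hwZ, hwZ] at hZ
    obtain rfl := mul_left_cancel₀ (P.φ_ne ha) hZ
    rfl

include hq in
theorem rot_data : ∃ T : Fix σ × Fix σ → Fix σ × Fix σ, (∀ v w, det (T v) (T w) = det v w) ∧
    (∀ v, C (T v) = ε * C v) ∧
    ∀ v : Fix σ × Fix σ, v ≠ 0 → T v ≠ 0 ∧ Oc C (T v) = Oc C v ∧ (0 : F) ∉ Oc C v := by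
  obtain ⟨T, hT, hC⟩ := P.rot
  refine ⟨T, hT, hC, fun v hv => ?_⟩
  have hε : ε ≠ 0 := fun e => by have := P.ε_norm; rw [e, zero_mul] at this; exact zero_ne_one this
  have hTv : T v ≠ 0 := fun e => by
    obtain ⟨p, hp⟩ := exists_det_one hv
    rw [← hT, e, det_zero_right] at hp
    exact zero_ne_one hp
  have hG : (Gam C v).image (ε * ·) = Gam C (T v) := by
    refine Finset.eq_of_subset_of_card_le ?_ ?_
    · intro x hx
      obtain ⟨y, hy, rfl⟩ := Finset.mem_image.1 hx
      rcases P.mem_Gam.1 hy with rfl | ⟨p, hp, rfl⟩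
      · rw [mul_zero]; exact P.zero_mem_Gam _
      · exact P.mem_Gam.2 (Or.inr ⟨T p, (hT p v).trans hp, hC p⟩)
    · rw [Finset.card_image_of_injective _ (mul_right_injective₀ hε), P.card_Gam (q := q) hv, P.card_Gam (q := q) hTv]
  have hZ : Zc C (T v) = ε * Zc C v := by
    rw [Zc, Zc, ← hG, Finset.sum_image fun x _ y _ e => mul_left_cancel₀ hε e, Finset.mul_sum]
  have hO : Oc C (T v) = (Oc C v).image (ε * ·) := by
    rw [Oc, Oc, ← hG, Finset.image_image, Finset.image_image]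
    exact Finset.image_congr fun x _ => show ε * x + Zc C (T v) = ε * (x + Zc C v) by
      rw [hZ, mul_add]
  obtain ⟨a, ha, hOa⟩ := (P.exists_scale (q := q) hv).1 _ hTv
  rw [hO, P.Oc_smul ha] at hOa
  -- the quotient of the multipliers fixes the set
  have hinv : (Oc C v).image ((ε / (φ a : F)) * ·) = Oc C v := by
    calc (Oc C v).image ((ε / (φ a : F)) * ·)
        = ((Oc C v).image (ε * ·)).image ((φ a : F)⁻¹ * ·) := by
          rw [Finset.image_image]
          exact Finset.image_congr fun x _ => show ε / (φ a : F) * x = (φ a : F)⁻¹ * (ε * x) by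
            rw [div_eq_mul_inv]; ring
      _ = _ := by
          rw [hOa, Finset.image_image, show ((fun x => (φ a : F)⁻¹ * x) ∘ fun x => (φ a : F) * x) = id from
            funext fun x => inv_mul_cancel_left₀ (P.φ_ne ha) x, Finset.image_id]
  have hcase := P.mult_eq_one (q := q) hv hinv
  set m : F := (φ a : F) with hm
  have hm0 : m ≠ 0 := P.φ_ne ha
  have hmσ : σ m = m := fix_apply (φ a)
  have hmpow : m ^ (q - 1) = 1 := congrArg Subtype.val
    (pow_fix (σ := σ) (q := q) (fun e => P.φ_ne ha (congrArg Subtype.val e)) (a := φ a))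
  -- the norm of the quotient
  have hnorm : (ε / m) * σ (ε / m) = (m ^ 2)⁻¹ := by
    rw [map_div₀, hmσ, div_mul_div_comm, P.ε_norm, one_div, pow_two]
  have hm1 : m = 1 := by
    have hm2 : m ^ 2 = 1 := by
      have h' : ((m ^ 2)⁻¹) ^ (q + 1) = 1 ∨ ((m ^ 2)⁻¹) ^ q = 1 := by
        rcases hcase with h | ⟨h, -⟩
        · left; rw [← hnorm, mul_pow, ← map_pow, h, map_one, mul_one]
        · right; rw [← hnorm, mul_pow, ← map_pow, h, map_one, mul_one]
      refine inv_eq_one.1 (P.eq_one_of_pow (q := q) h' ?_)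
      rw [inv_pow, ← pow_mul, mul_comm, pow_mul, hmpow, one_pow, inv_one]
    have h2 : (m + 1) ^ 2 = 0 := by
      linear_combination hm2 + (m + 1) * CharTwo.two_eq_zero (R := F)
    exact CharTwo.add_eq_zero.1 (pow_eq_zero_iff two_ne_zero |>.1 h2)
  rw [hm1, div_one] at hinv hcase
  refine ⟨hTv, hO.trans hinv, fun h0 => P.ε_ne ?_⟩
  rcases hcase with h | ⟨h, -⟩
  · -- the order divides `q` as well
    have h' : ((Oc C v).erase 0).image (ε * ·) = (Oc C v).erase 0 := by
      rw [Finset.image_erase (mul_right_injective₀ hε), hinv, mul_zero]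
    have := pow_card_eq_one_of_invariant (Finset.notMem_erase 0 _) h' hε
    rw [Finset.card_erase_of_mem h0, P.card_Oc (q := q) hv, Nat.add_sub_cancel] at this
    rw [pow_succ, this, one_mul] at h
    exact h
  · have h1 := pow_norm_one (σ := σ) (q := q) P.ε_norm
    rwa [pow_succ, h, one_mul] at h1

include hq in
/-- Two vectors of one scale are independent, and their centres add to the coordinate of the meeting point. -/
theorem pair {w w' : Fix σ × Fix σ} (hw : w ≠ 0) (hw' : w' ≠ 0) (hne : w ≠ w')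
    (hO : Oc C w' = Oc C w) :
    det w w' ≠ 0 ∧ C ((det w w')⁻¹ • (w + w')) = Zc C w + Zc C w' := by
  obtain ⟨-, -, hinj⟩ := P.exists_scale (q := q) hw
  have hz : Zc C w + Zc C w' ≠ 0 := fun e =>
    hne (hinj w w' hw hw' hO.symm (CharTwo.add_eq_zero.1 e))
  have h1 : Zc C w' + Zc C w ∈ Gam C w := P.mem_Oc (hO ▸ P.Zc_mem_Oc w')
  have h2 : Zc C w + Zc C w' ∈ Gam C w' := P.mem_Oc (hO.symm ▸ P.Zc_mem_Oc w)
  rw [add_comm] at h1
  rcases P.mem_Gam.1 h1 with e | ⟨p, hp, ep⟩
  · exact absurd e hz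
  rcases P.mem_Gam.1 h2 with e | ⟨p', hp', ep'⟩
  · exact absurd e hz
  have epp : p' = p := P.inj (ep'.trans ep.symm)
  subst p'
  have hd : det w w' ≠ 0 := by
    intro hd
    have hb := basis_decomp hp w'
    rw [det_comm w' w, hd, zero_smul, add_zero] at hb
    rw [hp', one_smul] at hb
    exact hne hb.symm
  refine ⟨hd, ep ▸ congrArg C ?_⟩
  refine eq_of_add_eq_zero ?_
  refine eq_zero_of_det hd ?_ ?_
  · rw [det_add_left, det_smul_left, det_add_left, det_self, zero_add, det_comm w' w, inv_mul_cancel₀ hd, hp,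
      add_self_fix]
  · rw [det_add_left, det_smul_left, det_add_left, det_self, add_zero, inv_mul_cancel₀ hd, hp', add_self_fix]

end Plane

end CfsgLib.RankOne.UnitaryUnique
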