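import Cfsg.Agent.Lib.RankOne.UnitaryUnique.Struct
import Cfsg.Agent.Lib.RankOne.UnitaryUnique.Plane
import Cfsg.Agent.Lib.RankOne.UnitaryUnique.Coords
import Cfsg.Agent.Lib.RankOne.Setup
import Cfsg.Agent.Lib.RankOne.Fusion

/-!
# The line through the centre, and semiregularity off it
-/

set_option autoImplicit false
set_option linter.style.haveILetI false
set_option linter.unusedSectionVars false

namespace CfsgLib.RankOne.UnitaryUnique

open MulAction Cfsg CfsgLib.Classical CfsgLib.RankOne.UnitarySylow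

universe u v

variable {G : Type u} {Ω : Type v} [Group G] [MulAction G Ω] {a : Ω} {t : G} {Q : Subgroup G}
  {F : Type} [Field F] [Fintype F] [CharP F 2] {σ : F →+* F} {q : ℕ}
  (hS : IsRankOneSetup G Ω a t Q) (U : UCoord₀ a t Q F σ q)
include hS

/-- An element of the two-point stabiliser centralising `Q` is trivial. -/
theorem eq_one_of_centralizes [FaithfulSMul G Ω] {d : G} (hd : d ∈ two G a t) (h : ∀ x ∈ Q, d * x * d⁻¹ = x) :
    d = 1 := by
  refine eq_of_smul_eq_smul (α := Ω) fun p => ?_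
  rw [one_smul]
  by_cases hp : p = a
  · rw [hp]; exact hd.1
  obtain ⟨x, ⟨hx, rfl⟩, -⟩ := exists_q hS hp
  rw [← conj_smul_o hS hd, h x hx]

namespace UCoord₀

omit hS in
theorem ι_zero : U.ι 0 = 1 := by
  have := U.ι_add 0 0
  rw [add_zero] at this
  exact left_eq_mul.1 this

omit hS in
theorem ι_sq (z : Fix σ) : U.ι z * U.ι z = 1 := by rw [← U.ι_add, add_self_fix, ι_zero]

omit hS in
theorem ι_inv (z : Fix σ) : (U.ι z)⁻¹ = U.ι z := inv_eq_of_mul_eq_one_right (U.ι_sq z)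

omit hS in
theorem ι_ne {z : Fix σ} (hz : z ≠ 0) : U.ι z ≠ 1 := fun e => hz (U.ι_inj (e.trans U.ι_zero.symm))

omit hS in
theorem π_ι (z : Fix σ) : U.π (U.ι z) = 0 := (U.π_eq_zero _ (U.ι_mem z)).2 ⟨z, rfl⟩

omit hS in
theorem π_one : U.π 1 = 0 := by rw [← U.ι_zero]; exact U.π_ι 0

omit hS in
theorem π_inv {x : G} (hx : x ∈ Q) : U.π x⁻¹ = U.π x := by
  have h := U.π_mul x hx x⁻¹ (inv_mem hx)
  rw [mul_inv_cancel, U.π_one] at h
  linear_combination -h - U.π x * CharTwo.two_eq_zero (R := F) + 2 * 0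

omit hS in
theorem ne_one_of_π {x : G} (h : U.π x ≠ 0) : x ≠ 1 := fun e => h (by rw [e, U.π_one])

omit hS in
theorem π_ι_mul (z : Fix σ) {x : G} (hx : x ∈ Q) : U.π (U.ι z * x) = U.π x := by
  rw [U.π_mul _ (U.ι_mem z) _ hx, U.π_ι, zero_add]

omit hS in
theorem exists_shift {x y : G} (hx : x ∈ Q) (hy : y ∈ Q) (h : U.π x = U.π y) : ∃ z, y = U.ι z * x := by
  obtain ⟨z, hz⟩ := (U.π_eq_zero _ (mul_mem hy (inv_mem hx))).1 (by
    rw [U.π_mul _ hy _ (inv_mem hx), U.π_inv hx, h, CharTwo.add_self_eq_zero])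
  exact ⟨z, by rw [hz, inv_mul_cancel_right]⟩

omit hS in
theorem exists_sq {x : G} (hx : x ∈ Q) : ∃ e, U.ι e = x * x :=
  (U.π_eq_zero _ (mul_mem hx hx)).1 (by rw [U.π_mul _ hx _ hx, CharTwo.add_self_eq_zero])

omit hS in
theorem mul_shift_ne {z : Fix σ} {x : G} (hx : x ∈ Q) (h : U.π x ≠ 0) : U.ι z * x ≠ 1 :=
  U.ne_one_of_π (by rwa [U.π_ι_mul z hx])

variable [Finite G]

/-- An element acting trivially on the centre and on the central quotient is trivial. -/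
theorem eq_one_of_trivial [FaithfulSMul G Ω] {d : G} (hd : d ∈ two G a t)
    (hπ : ∀ x ∈ Q, U.π (d * x * d⁻¹) = U.π x) (hι : ∀ z, d * U.ι z * d⁻¹ = U.ι z) : d = 1 := by
  refine eq_one_of_centralizes hS hd fun x hx => ?_
  obtain ⟨c, hc⟩ := U.exists_shift hx (hS.conj_mem d hd.1 x hx) (hπ x hx).symm
  have hn : ∀ n : ℕ, d ^ n * x * (d ^ n)⁻¹ = U.ι (n • c) * x := by
    intro n
    induction n with
    | zero => simp [U.ι_zero]
    | succ n ih =>
      rw [succ_nsmul, U.ι_add, mul_assoc (U.ι (n • c)) (U.ι c) x, ← hc]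
      calc d ^ (n + 1) * x * (d ^ (n + 1))⁻¹ = d * (d ^ n * x * (d ^ n)⁻¹) * d⁻¹ := by rw [pow_succ']; group
        _ = d * U.ι (n • c) * d⁻¹ * (d * x * d⁻¹) := by rw [ih]; group
        _ = U.ι (n • c) * (d * x * d⁻¹) := by rw [hι]
  obtain ⟨m, hm⟩ := hS.odd_card
  have h1 := hn (Nat.card (two G a t))
  rw [pow_card_mem hd, one_mul, inv_one, mul_one, hm, add_smul, one_smul, mul_smul, two_smul,
    add_self_fix, zero_add, eq_comm, mul_eq_right] at h1
  rw [hc, h1, one_mul]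

theorem invol_iff {s : G} :
    s ∈ involutionsIn (stabilizer G a : Set G) ↔ ∃ z, z ≠ 0 ∧ U.ι z = s := by
  constructor
  · rintro ⟨hs, hs1, hs2⟩
    have hq := odd_mem_q hS hs hs2
    obtain ⟨z, rfl⟩ := (U.π_eq_zero _ hq).1 (U.π_invol _ hq hs2)
    exact ⟨z, fun e => hs1 (by rw [e, U.ι_zero]), rfl⟩
  · rintro ⟨z, hz, rfl⟩
    exact ⟨hS.le (U.ι_mem z), U.ι_ne hz, U.ι_sq z⟩

/-- Every inverted element is a scalar. -/
theorem inverted_scalar {k : G} (hk : k ∈ invertedBy (two G a t) t) : ∃ l : Fix σ, l ≠ 0 ∧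
    (∀ x ∈ Q, U.π (k * x * k⁻¹) = (U.φ l : F) * U.π x) ∧ ∀ z, k * U.ι z * k⁻¹ = U.ι (l * l * z) := by
  choose kk hkk hkπ hkι using fun l : {l : Fix σ // l ≠ 0} => U.scalar l.1 l.2
  have hinj : Function.Injective fun l => (⟨kk l, hkk l⟩ : invertedBy (two G a t) t) := fun l l' e => by
    have e' : kk l = kk l' := congrArg Subtype.val e
    have h := U.ι_inj (((hkι l 1).symm.trans (by rw [e'])).trans (hkι l' 1))
    rw [mul_one, mul_one] at h
    refine Subtype.ext (eq_of_sub_eq_zero (mul_self_eq_zero.1 ?_))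
    linear_combination h + (l'.1 * l'.1 - l.1 * l'.1) * two_fix (σ := σ)
  have hcard : Nat.card {l : Fix σ // l ≠ 0} = Nat.card (invertedBy (two G a t) t) := by
    rw [card_inverted hS]
    refine Nat.card_congr (Equiv.ofBijective
      (fun l => ⟨U.ι l.1, (U.invol_iff hS).2 ⟨l.1, l.2, rfl⟩⟩) ⟨fun l l' e => ?_, fun s => ?_⟩)
    · exact Subtype.ext (U.ι_inj (congrArg Subtype.val e))
    · obtain ⟨z, hz, e⟩ := (U.invol_iff hS).1 s.2
      exact ⟨⟨z, hz⟩, Subtype.ext e⟩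
  obtain ⟨l, hl⟩ := ((Nat.bijective_iff_injective_and_card _).2 ⟨hinj, hcard⟩).2 ⟨k, hk⟩
  obtain rfl : kk l = k := congrArg Subtype.val hl
  exact ⟨l.1, l.2, hkπ l, hkι l⟩

/-- The structure map preserves the centre. -/
theorem exists_kappa : ∃ κ : Fix σ, κ ≠ 0 ∧ ∀ z, z ≠ 0 → fmap a t Q (U.ι z) = U.ι (κ * z⁻¹) := by
  obtain ⟨w, hw, hwt, hwπ, hwι⟩ := U.rotation
  have htwt : t * w * t = w := by rwa [t_inv hS] at hwt
  have hcen : ∀ z, z ≠ 0 → ∃ z', z' ≠ 0 ∧ U.ι z' = fmap a t Q (U.ι z) := by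
    intro z hz
    obtain ⟨hf, -⟩ := fmap_spec hS (U.ι_mem z) (U.ι_ne hz)
    have h := congrArg U.π (fmap_equiv hS hw (U.ι_mem z) (U.ι_ne hz))
    rw [hwι, htwt, hwπ _ hf] at h
    have h0 : U.π (fmap a t Q (U.ι z)) = 0 := by
      by_contra hne
      exact U.ε_ne ((mul_eq_right₀ hne).1 h.symm)
    obtain ⟨z', hz'⟩ := (U.π_eq_zero _ hf).1 h0
    exact ⟨z', fun e => fmap_ne hS (U.ι_mem z) (U.ι_ne hz) (by rw [← hz', e, U.ι_zero]), hz'⟩
  obtain ⟨κ, hκ, hκ1⟩ := hcen 1 one_ne_zero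
  refine ⟨κ, hκ, fun z hz => ?_⟩
  obtain ⟨l, hl⟩ := exists_sqrt' z
  have hl0 : l ≠ 0 := fun e => hz (by rw [← hl, e, mul_zero])
  obtain ⟨k, hk, -, hkι⟩ := U.scalar l hl0
  have htk : t * k * t = k⁻¹ := by have := hk.2; rwa [t_inv hS] at this
  have h := fmap_equiv hS hk.1 (U.ι_mem 1) (U.ι_ne one_ne_zero)
  rw [hkι, mul_one, hl, htk, inv_inv, ← hκ1] at h
  rw [h]
  have e := hkι (κ * z⁻¹)
  rw [hl, mul_left_comm, mul_inv_cancel₀ hz, mul_one] at e
  rw [← e]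
  group
where
  exists_sqrt' (x : Fix σ) : ∃ r : Fix σ, r * r = x := by
    obtain ⟨r, hr⟩ := Finite.injective_iff_surjective.1 (frobenius_inj F 2) (x : F)
    rw [frobenius_def, pow_two] at hr
    refine ⟨⟨r, ?_⟩, Subtype.ext hr⟩
    show σ r = r
    apply frobenius_inj F 2
    rw [frobenius_def, frobenius_def, ← map_pow, pow_two, hr, fix_apply]

omit hS in
/-- The centre normalised. -/
def Normalised : Prop := ∀ z, z ≠ 0 → fmap a t Q (U.ι z) = U.ι z⁻¹

omit hS in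
include U in
theorem exists_fix (hq4 : 4 ≤ q) : ∃ x : Fix σ, x ≠ 0 ∧ x ≠ 1 := by
  classical
  haveI := Fintype.ofFinite (Fix σ)
  haveI : Fact (IsConjugation σ) := ⟨U.conj⟩
  haveI : Fact (Fintype.card F = q ^ 2 ∧ ∀ x, σ x = x ^ q) := ⟨U.card_field⟩
  have hc : Fintype.card (Fix σ) = q := by rw [← Nat.card_eq_fintype_card]; exact card_fix (σ := σ) (q := q)
  obtain ⟨x, -, hx⟩ := Finset.exists_mem_notMem_of_card_lt_card (s := ({0, 1} : Finset (Fix σ))) (t := Finset.univ)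
    (Finset.card_le_two.trans_lt (by rw [Finset.card_univ, hc]; omega))
  rw [Finset.mem_insert, Finset.mem_singleton, not_or] at hx
  exact ⟨x, hx⟩

variable (hn : U.Normalised)
include hn

/-- The line: `t ι(z) t` and its scalar. -/
theorem line_struct {z : Fix σ} (hz : z ≠ 0) : ∃ k ∈ invertedBy (two G a t) t,
    (∀ x ∈ Q, U.π (k * x * k⁻¹) = (U.φ z⁻¹ : F) * U.π x) ∧ (∀ y, k * U.ι y * k⁻¹ = U.ι (z⁻¹ * z⁻¹ * y)) ∧
      t * U.ι z * t = U.ι z⁻¹ * k * t * U.ι z⁻¹ := by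
  have hx := U.ι_mem z
  have hx1 := U.ι_ne hz
  obtain ⟨h, hh, g, hg, e⟩ := exists_struct hS hx hx1
  obtain ⟨e1, e2⟩ := struct_inv hS hx hx1 hh hg e
  rw [U.ι_inv, hn z hz] at e1 e2
  have hgz : g = U.ι z⁻¹ := by rw [← inv_inv g, ← e1, U.ι_inv]
  rw [hn z hz, hgz] at e
  rw [U.ι_inv] at e2
  obtain ⟨-, hh', -⟩ := canonical_unique hS (U.ι_mem z⁻¹) hh (U.ι_mem z⁻¹) (U.ι_mem z⁻¹)
    (conj_t_mem' hS (inv_mem hh)) (U.ι_mem z⁻¹) (e.symm.trans e2)
  have hK : h ∈ invertedBy (two G a t) t := ⟨hh, by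
    rw [t_inv hS]
    calc t * h * t = t * (t * h⁻¹ * t) * t := by rw [← hh']
      _ = (t * t) * h⁻¹ * (t * t) := by group
      _ = h⁻¹ := by rw [hS.mul_self, one_mul, mul_one]⟩
  obtain ⟨l, hl0, hlπ, hlι⟩ := U.inverted_scalar hS hK
  suffices hl : l = z⁻¹ by
    subst hl
    exact ⟨h, hK, hlπ, hlι, e⟩
  obtain ⟨c, hc0, hc1⟩ := U.exists_fix U.four_le
  set y : Fix σ := c * z⁻¹ with hy
  have hy0 : y ≠ 0 := mul_ne_zero hc0 (inv_ne_zero hz)
  have hzy : z + y⁻¹ ≠ 0 := fun h0 => hc1 (by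
    rw [hy, mul_inv, inv_inv] at h0
    have : z * (1 + c⁻¹) = 0 := by linear_combination h0
    have h1 := (mul_eq_zero.1 this).resolve_left hz
    have : c⁻¹ = 1 := by linear_combination h1 - two_fix (σ := σ)
    exact inv_eq_one.1 this)
  have hzy' : z⁻¹ + y ≠ 0 := fun h0 => hc1 (by
    rw [hy] at h0
    have : (1 + c) * z⁻¹ = 0 := by linear_combination h0
    linear_combination (mul_eq_zero.1 this).resolve_right (inv_ne_zero hz) - two_fix (σ := σ))
  have hxy : U.ι z * fmap a t Q (U.ι y) ≠ 1 := by rw [hn y hy0, ← U.ι_add]; exact U.ι_ne hzy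
  have hfx : fmap a t Q (U.ι z) = U.ι z⁻¹ := hn z hz
  obtain ⟨-, e3⟩ := composite hS hx hx1 hh (U.ι_mem z⁻¹) (by rw [hfx]; exact e) (U.ι_mem y) (U.ι_ne hy0) hxy
  rw [hfx, hn y hy0, ← U.ι_add, hn _ hzy, ← U.ι_add, hn _ hzy', hlι, ← U.ι_add] at e3
  have e4 := U.ι_inj e3
  have h2 := two_fix (σ := σ)
  have e5 : (l * z + 1) * (l * z + 1) = 0 := by
    field_simp at e4
    have hD : 1 + z * y ≠ 0 := fun h0 => hc1 (by
      rw [hy, mul_left_comm, mul_inv_cancel₀ hz, mul_one] at h0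
      linear_combination h0 - h2)
    rw [add_comm (z * y) 1, div_eq_iff hD, add_mul, one_mul, div_mul_cancel₀ _ hD] at e4
    linear_combination -e4 + (l * z) * h2
  have h6 := mul_self_eq_zero.1 e5
  field_simp
  linear_combination h6 - h2

/-- The rule for translating by a central element. -/
theorem line_rule {z : Fix σ} (hz : z ≠ 0) {y : G} (hy : y ∈ Q) (hπ : U.π y ≠ 0) :
    U.π (fmap a t Q (U.ι z * fmap a t Q y)) = (U.φ z⁻¹ : F) * U.π (fmap a t Q (U.ι z⁻¹ * y)) := by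
  obtain ⟨k, hk, hkπ, -, e⟩ := U.line_struct hS hn hz
  have hy1 := U.ne_one_of_π hπ
  have hxy : U.ι z * fmap a t Q y ≠ 1 := by
    intro e0
    have e1 : fmap a t Q y = U.ι z := by rw [eq_inv_of_mul_eq_one_right e0, U.ι_inv]
    have e2 := fmap_fmap hS hy hy1
    rw [e1, hn z hz] at e2
    exact hπ (by rw [← e2]; exact U.π_ι _)
  have hfx : fmap a t Q (U.ι z) = U.ι z⁻¹ := hn z hz
  obtain ⟨hgy, e3⟩ := composite hS (U.ι_mem z) (U.ι_ne hz) hk.1 (U.ι_mem z⁻¹) (by rw [hfx]; exact e) hy hy1 hxy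
  have hm := (fmap_spec hS (mul_mem (U.ι_mem z⁻¹) hy) hgy).1
  rw [e3, hfx, U.π_ι_mul _ (hS.conj_mem k hk.1.1 _ hm), hkπ _ hm]

theorem π_fmap_ne {y : G} (hy : y ∈ Q) (hπ : U.π y ≠ 0) : U.π (fmap a t Q y) ≠ 0 := fun h0 => by
  have hy1 := U.ne_one_of_π hπ
  obtain ⟨z, hz⟩ := (U.π_eq_zero _ (fmap_spec hS hy hy1).1).1 h0
  have hz0 : z ≠ 0 := fun e => fmap_ne hS hy hy1 (by rw [← hz, e, U.ι_zero])
  have := fmap_fmap hS hy hy1
  rw [← hz, hn z hz0] at this
  exact hπ (by rw [← this]; exact U.π_ι _)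

variable [FaithfulSMul G Ω]

/-- Off the line the image has a new direction. -/
theorem not_same_direction {x : G} (hx : x ∈ Q) (hπ : U.π x ≠ 0) {l : Fix σ} (hl : l ≠ 0) :
    U.π (fmap a t Q x) ≠ (U.φ l : F) * U.π x := by
  intro h
  obtain ⟨k, hk, hkπ, hkι⟩ := U.scalar l hl
  have hx1 := U.ne_one_of_π hπ
  obtain ⟨hf, hfo⟩ := fmap_spec hS hx hx1
  obtain ⟨z, hz⟩ := U.exists_shift (hS.conj_mem k hk.1.1 x hx) hf (by rw [hkπ x hx, h])
  have hti := t_inv hS
  have htk : t * k * t = k⁻¹ := by have := hk.2; rwa [hti] at this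
  set P := x • t • a with hP
  set e : G := k⁻¹ * U.ι z * t with he
  have heP : e • P = P := by
    rw [he, mul_smul, mul_smul, hP, ← hfo, hz, mul_smul, conj_smul_o hS hk.1, smul_smul (U.ι z) (U.ι z),
      U.ι_sq, one_smul, inv_smul_smul]
  -- as a product of two involutions
  set i : G := k⁻¹ * t with hi
  have hi2 : i * i = 1 := by
    rw [hi, show k⁻¹ * t * (k⁻¹ * t) = k⁻¹ * (t * k⁻¹ * t) by group,
      show t * k⁻¹ * t = (t * k * t)⁻¹ by rw [mul_inv_rev, mul_inv_rev, hti, mul_assoc], htk, inv_inv,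
      inv_mul_cancel]
  have hia : i • a = t • a := by
    rw [hi, mul_smul, fix_o hS (inv_mem hk.1)]
  have hi1 : i ≠ 1 := fun e0 => ta_ne hS (by rw [← hia, e0, one_smul])
  set z' : Fix σ := (l * l)⁻¹ * z with hz'
  have hes : e = U.ι z' * i := by
    have h1 : k⁻¹ * U.ι z * k = U.ι z' := by
      rw [show U.ι z = k * U.ι z' * k⁻¹ by
        rw [hkι, hz', ← mul_assoc, mul_inv_cancel₀ (mul_ne_zero hl hl), one_mul]]
      group
    rw [he, hi, ← h1]; group
  by_cases hz0 : z' = 0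
  · -- an involution fixing a point of the line and a point off it
    rw [hz0, U.ι_zero, one_mul] at hes
    have hy : U.ι l⁻¹ • t • a = P := by
      refine fix_eq hS hi2 hi1 ?_ (hes ▸ heP)
      have hl' := inv_ne_zero hl
      obtain ⟨-, ho⟩ := fmap_spec hS (U.ι_mem l⁻¹) (U.ι_ne hl')
      rw [hn _ hl', inv_inv] at ho
      rw [hi, mul_smul, ← ho, inv_smul_eq_iff, ← conj_smul_o hS hk.1, hkι]
      congr 2
      field_simp
    have hne : x • t • a ≠ a := fun e0 => ta_ne hS (by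
      calc t • a = x⁻¹ • x • t • a := (inv_smul_smul x _).symm
        _ = a := by rw [e0, inv_smul_eq_iff]; exact (hS.le hx).symm)
    have := (exists_q hS hne).unique ⟨U.ι_mem l⁻¹, hy⟩ ⟨hx, rfl⟩
    exact hπ (by rw [← this]; exact U.π_ι _)
  · obtain ⟨w, hw, hwt, hwπ, hwι⟩ := U.rotation
    rw [hti] at hwt
    have hkw : k * w ∈ two G a t := mul_mem hk.1 hw
    have hwk : w * k = k * w := by
      refine mul_inv_eq_one.1 (U.eq_one_of_trivial hS (mul_mem (mul_mem hw hk.1) (inv_mem hkw)) ?_ ?_)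
      · intro y hy
        have hy' : (k * w)⁻¹ * y * (k * w) ∈ Q := conj_mem' hS hkw.1 hy
        set y' := (k * w)⁻¹ * y * (k * w) with hy'def
        have hky := hS.conj_mem k hk.1.1 y' hy'
        have hwy := hS.conj_mem w hw.1 y' hy'
        calc U.π (w * k * (k * w)⁻¹ * y * (w * k * (k * w)⁻¹)⁻¹)
            = U.π (w * (k * y' * k⁻¹) * w⁻¹) := by rw [hy'def]; group
          _ = U.π (k * (w * y' * w⁻¹) * k⁻¹) := by rw [hwπ _ hky, hkπ _ hwy, hkπ _ hy', hwπ _ hy']; ring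
          _ = U.π y := by rw [hy'def]; group
      · intro y
        set y' := (l * l)⁻¹ * y
        have e1 : U.ι y = k * (w * U.ι y' * w⁻¹) * k⁻¹ := by
          rw [hwι, hkι, ← mul_assoc, mul_inv_cancel₀ (mul_ne_zero hl hl), one_mul]
        calc w * k * (k * w)⁻¹ * U.ι y * (w * k * (k * w)⁻¹)⁻¹
            = w * (k * U.ι y' * k⁻¹) * w⁻¹ := by rw [e1]; group
          _ = U.ι y := by rw [hkι, hwι, ← mul_assoc, mul_inv_cancel₀ (mul_ne_zero hl hl), one_mul]
    have hwe : w * e = e * w := by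
      have h1 : w * k⁻¹ = k⁻¹ * w := (Commute.inv_right (show Commute w k from hwk)).eq
      have h2 : w * U.ι z = U.ι z * w := mul_inv_eq_iff_eq_mul.1 (hwι z)
      have h3 : w * t = t * w := by
        calc w * t = (t * w * t) * t := by rw [hwt]
          _ = t * w * (t * t) := by group
          _ = t * w := by rw [hS.mul_self, mul_one]
      calc w * e = w * k⁻¹ * U.ι z * t := by rw [he]; group
        _ = k⁻¹ * (w * U.ι z) * t := by rw [h1]; group
        _ = k⁻¹ * U.ι z * (w * t) := by rw [h2]; group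
        _ = e * w := by rw [h3, he]; group
    have hew : ∀ p : Ω, e • p = p → e • w • p = w • p := fun p hp => by rw [smul_smul, ← hwe, mul_smul, hp]
    -- three fixed points
    have hwx : w • P = (w * x * w⁻¹) • t • a := (conj_smul_o hS hw x).symm
    have hx' := hS.conj_mem w hw.1 x hx
    have hwwx : w • w • P = (w * (w * x * w⁻¹) * w⁻¹) • t • a := by rw [hwx, ← conj_smul_o hS hw]
    have hx'' := hS.conj_mem w hw.1 _ hx'
    have hne_a : ∀ y ∈ Q, y • t • a ≠ a := fun y hy e0 => ta_ne hS (by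
      calc t • a = y⁻¹ • y • t • a := (inv_smul_smul y _).symm
        _ = a := by rw [e0, inv_smul_eq_iff]; exact (hS.le hy).symm)
    have hneq : ∀ y ∈ Q, ∀ y' ∈ Q, U.π y ≠ U.π y' → y • t • a ≠ y' • t • a := fun y hy y' hy' hne e0 =>
      hne (by rw [(exists_q hS (hne_a y' hy')).unique ⟨hy, e0⟩ ⟨hy', rfl⟩])
    have hε0 : U.ε ≠ 0 := fun e0 => one_ne_zero (α := F) (by rw [← U.ε_norm, e0, zero_mul])
    have d1 : P ≠ w • P := by
      rw [hwx]
      refine hneq _ hx _ hx' fun e0 => U.ε_ne ?_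
      rw [hwπ _ hx] at e0
      exact (mul_eq_right₀ hπ).1 e0.symm
    have d2 : w • P ≠ w • w • P := fun e0 => d1 (smul_left_cancel w e0)
    have d3 : P ≠ w • w • P := by
      rw [hwwx]
      refine hneq _ hx _ hx'' fun e0 => U.ε_ne ?_
      rw [hwπ _ hx', hwπ _ hx, ← mul_assoc] at e0
      exact CharTwo.sq_inj.1 (by rw [one_pow, pow_two]; exact (mul_eq_right₀ hπ).1 e0.symm)
    have he1 : e ≠ 1 := fun e0 => ta_ne hS (by
      rw [← hia, show i = U.ι z' by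
        rw [← U.ι_inv z', eq_inv_iff_mul_eq_one, ← mul_eq_one_comm, ← hes, e0]]
      exact hS.le (U.ι_mem z'))
    have he2 : e * e ≠ 1 := fun e0 => d1 (fix_eq hS e0 he1 heP (hew P heP))
    rw [hes] at he2
    obtain ⟨c, hc0, hc1⟩ := U.exists_fix U.four_le
    have hodd := (strongly_real hS ⟨U.ι 1, U.ι c, U.ι_ne one_ne_zero, U.ι_ne hc0, fun e0 => hc1 (U.ι_inj e0).symm,
      U.ι_sq 1, U.ι_sq c, U.ι_comm 1 _ (U.ι_mem c)⟩ (U.ι_ne hz0) (U.ι_sq z') hi1 hi2 he2).2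
    rw [← hes] at hodd
    -- move two of the fixed points to the base points
    obtain ⟨g, hg1, hg2⟩ : ∃ g : G, g • P = a ∧ g • w • P = t • a :=
      is_two_pretransitive_iff.mp hS.two_transitive d1 (ta_ne hS).symm
    have hfix : ∀ p : Ω, e • p = p → (g * e * g⁻¹) • g • p = g • p := fun p hp => by
      rw [mul_smul, mul_smul, inv_smul_smul, hp]
    obtain ⟨v, hv, hv2, hv1, -⟩ := exists_invol_centralizer hS (X := {g * e * g⁻¹})
      (by
        rintro _ rfl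
        exact (mem_two hS).2 ⟨hg1 ▸ hfix P heP, hg2 ▸ hfix _ (hew P heP)⟩)
      ⟨g • P, g • w • P, g • w • w • P, fun e0 => d1 (smul_left_cancel g e0),
        fun e0 => d3 (smul_left_cancel g e0), fun e0 => d2 (smul_left_cancel g e0), by
        rintro _ rfl
        exact ⟨hfix P heP, hfix _ (hew P heP), hfix _ (hew _ (hew P heP))⟩⟩
    have hcv : g⁻¹ * v * g ∈ Subgroup.centralizer {e} := Subgroup.mem_centralizer_singleton_iff.2 (by
      have := Subgroup.mem_centralizer_singleton_iff.1 hv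
      calc g⁻¹ * v * g * e = g⁻¹ * (v * (g * e * g⁻¹)) * g := by group
        _ = g⁻¹ * (g * e * g⁻¹ * v) * g := by rw [this]
        _ = e * (g⁻¹ * v * g) := by group)
    have hord := orderOf_dvd_natCard (G := ↥(Subgroup.centralizer {e})) ⟨_, hcv⟩
    rw [← Subgroup.orderOf_coe, orderOf_eq_prime (by
      rw [pow_two, show g⁻¹ * v * g * (g⁻¹ * v * g) = g⁻¹ * (v * v) * g by group, hv2]; group) (fun e0 => hv1 (by
      have e1 : g⁻¹ * v * g = 1 := e0
      calc v = g * (g⁻¹ * v * g) * g⁻¹ := by group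
        _ = 1 := by rw [e1]; group))] at hord
    exact Nat.not_even_iff_odd.2 hodd (even_iff_two_dvd.2 hord)

end UCoord₀

end CfsgLib.RankOne.UnitaryUnique
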