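import Cfsg.Agent.Lib.RankOne.Basic

/-!
# The structure map of a rank-one set-up

`fmap x` is the element of `Q` with `t • x • o = fmap x • o` for the base point `o = t • a`.
-/

set_option autoImplicit false
set_option linter.unusedSectionVars false

namespace CfsgLib.RankOne.UnitaryUnique

open MulAction Cfsg

universe u v

variable {G : Type u} {Ω : Type v} [Group G] [MulAction G Ω]

open _root_.Classical in
/-- The structure map. -/
noncomputable def fmap (a : Ω) (t : G) (Q : Subgroup G) (x : G) : G :=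
  if h : ∃ r ∈ Q, r • t • a = t • x • t • a then h.choose else 1

variable {a : Ω} {t : G} {Q : Subgroup G} (hS : IsRankOneSetup G Ω a t Q)
include hS

theorem q_move {x : G} (hx : x ∈ Q) (h1 : x ≠ 1) : t • x • t • a ≠ a := fun h => h1 <| by
  refine eq_one_of_fix_ta hS hx ?_
  rw [← tt_smul hS (x • t • a), h]

theorem fmap_spec {x : G} (hx : x ∈ Q) (h1 : x ≠ 1) :
    fmap a t Q x ∈ Q ∧ fmap a t Q x • t • a = t • x • t • a := by
  obtain ⟨r, hr, -⟩ := exists_q hS (q_move hS hx h1)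
  have h : ∃ r ∈ Q, r • t • a = t • x • t • a := ⟨r, hr⟩
  rw [fmap, dif_pos h]
  exact h.choose_spec

theorem fmap_eq {x r : G} (hx : x ∈ Q) (h1 : x ≠ 1) (hr : r ∈ Q) (e : r • t • a = t • x • t • a) :
    fmap a t Q x = r :=
  (exists_q hS (q_move hS hx h1)).unique (fmap_spec hS hx h1) ⟨hr, e⟩

theorem fmap_ne {x : G} (hx : x ∈ Q) (h1 : x ≠ 1) : fmap a t Q x ≠ 1 := fun e => by
  have h := (fmap_spec hS hx h1).2
  rw [e, one_smul] at h
  have h2 : x • t • a = a := by
    have := congrArg (fun p => t • p) h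
    simp only [tt_smul hS] at this
    exact this.symm
  exact ta_ne hS (by
    calc t • a = x⁻¹ • x • t • a := (inv_smul_smul x _).symm
      _ = a := by rw [h2, inv_smul_eq_iff]; exact (hS.le hx).symm)

theorem fmap_fmap {x : G} (hx : x ∈ Q) (h1 : x ≠ 1) : fmap a t Q (fmap a t Q x) = x :=
  fmap_eq hS (fmap_spec hS hx h1).1 (fmap_ne hS hx h1) hx (by rw [(fmap_spec hS hx h1).2, tt_smul hS])

theorem fix_o {d : G} (hd : d ∈ two G a t) : d • t • a = t • a := ((mem_two hS).1 hd).2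

theorem conj_smul_o {d : G} (hd : d ∈ two G a t) (x : G) : (d * x * d⁻¹) • t • a = d • x • t • a := by
  rw [mul_smul, mul_smul, fix_o hS (inv_mem hd)]

theorem fmap_equiv {d x : G} (hd : d ∈ two G a t) (hx : x ∈ Q) (h1 : x ≠ 1) :
    fmap a t Q (d * x * d⁻¹) = (t * d * t) * fmap a t Q x * (t * d * t)⁻¹ := by
  refine fmap_eq hS (hS.conj_mem d hd.1 x hx) (fun e => h1 (conj_eq_one_iff.1 e))
    (hS.conj_mem _ (conj_t_mem' hS hd).1 _ (fmap_spec hS hx h1).1) ?_
  rw [conj_smul_o hS hd, conj_smul_o hS (conj_t_mem' hS hd), (fmap_spec hS hx h1).2, mul_smul, mul_smul,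
    tt_smul hS]

/-- The canonical form of `t x t`. -/
theorem exists_struct {x : G} (hx : x ∈ Q) (h1 : x ≠ 1) :
    ∃ h ∈ two G a t, ∃ g ∈ Q, t * x * t = fmap a t Q x * h * t * g := by
  have hne : t * x * t ∉ stabilizer G a := fun h => q_move hS hx h1 (by
    have h' : (t * x * t) • a = a := h
    rwa [mul_smul, mul_smul] at h')
  obtain ⟨⟨y, g⟩, ⟨hy, hg, e⟩, -⟩ := exists_canonical hS hne
  obtain ⟨p, hp, h, hh, rfl⟩ := exists_qd hS hy
  refine ⟨h, hh, g, hg, ?_⟩
  have hpe : fmap a t Q x = p := by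
    refine fmap_eq hS hx h1 hp ?_
    have e' := congrArg (fun y : G => y • a) e
    simp only [mul_smul] at e'
    rw [show g • a = a from hS.le hg, fix_o hS hh, show x • t • a = x • t • a from rfl] at e'
    exact e'.symm
  rw [hpe]
  exact e

variable [Finite G] {x h g : G}

theorem struct_inv (hx : x ∈ Q) (h1 : x ≠ 1) (hh : h ∈ two G a t) (hg : g ∈ Q)
    (e : t * x * t = fmap a t Q x * h * t * g) :
    fmap a t Q x⁻¹ = g⁻¹ ∧ t * x⁻¹ * t = fmap a t Q x⁻¹ * (t * h⁻¹ * t) * t * (fmap a t Q x)⁻¹ := by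
  have ht : t⁻¹ = t := t_inv hS
  have h1' : x⁻¹ ≠ 1 := inv_ne_one.2 h1
  have e2 : t * x⁻¹ * t = g⁻¹ * (t * h⁻¹ * t) * t * (fmap a t Q x)⁻¹ := by
    have := congrArg (fun y : G => y⁻¹) e
    simp only [mul_inv_rev, ht] at this
    rw [mul_assoc (g⁻¹) (t * h⁻¹ * t) t, mul_assoc (t * h⁻¹) t t, hS.mul_self, mul_one]
    simp only [← mul_assoc] at this ⊢
    exact this
  obtain ⟨h', hh', g', hg', e3⟩ := exists_struct hS (inv_mem hx) h1'
  obtain ⟨e4, e5, e6⟩ := canonical_unique hS (fmap_spec hS (inv_mem hx) h1').1 hh' hg'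
    (inv_mem hg) (conj_t_mem' hS (inv_mem hh)) (inv_mem (fmap_spec hS hx h1).1) (e3.symm.trans e2)
  exact ⟨e4, by rw [e4]; exact e2⟩

theorem struct_ne (hx : x ∈ Q) (h1 : x ≠ 1) (hh : h ∈ two G a t) (hg : g ∈ Q)
    (e : t * x * t = fmap a t Q x * h * t * g) : g ≠ 1 := by
  have := (struct_inv hS hx h1 hh hg e).1
  have h2 := fmap_ne hS (inv_mem hx) (inv_ne_one.2 h1)
  rw [this] at h2
  exact fun e => h2 (by rw [e, inv_one])

/-- The composite rule. -/
theorem composite (hx : x ∈ Q) (h1 : x ≠ 1) (hh : h ∈ two G a t) (hg : g ∈ Q)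
    (e : t * x * t = fmap a t Q x * h * t * g) {y : G} (hy : y ∈ Q) (hy1 : y ≠ 1)
    (hxy : x * fmap a t Q y ≠ 1) :
    g * y ≠ 1 ∧ fmap a t Q (x * fmap a t Q y) = fmap a t Q x * (h * fmap a t Q (g * y) * h⁻¹) := by
  obtain ⟨hfy, efy⟩ := fmap_spec hS hy hy1
  have hq : x * fmap a t Q y ∈ Q := mul_mem hx hfy
  have key : t • (x * fmap a t Q y) • t • a = (fmap a t Q x * h * t * g) • y • t • a := by
    rw [← e, mul_smul, mul_smul, mul_smul, efy]
  have hgy : g * y ≠ 1 := fun e' => q_move hS hq hxy (by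
    rw [key, mul_smul (fmap a t Q x * h * t) g, ← mul_smul g y, e', one_smul, mul_smul, mul_smul, tt_smul hS,
      show h • a = a from hh.1]
    exact hS.le (fmap_spec hS hx h1).1)
  obtain ⟨hfg, efg⟩ := fmap_spec hS (mul_mem hg hy) hgy
  refine ⟨hgy, fmap_eq hS hq hxy (mul_mem (fmap_spec hS hx h1).1 (hS.conj_mem h hh.1 _ hfg)) ?_⟩
  rw [key, mul_smul, conj_smul_o hS hh, efg]
  simp only [mul_smul]

theorem composite_one (hx : x ∈ Q) (h1 : x ≠ 1) (hh : h ∈ two G a t) (hg : g ∈ Q)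
    (e : t * x * t = fmap a t Q x * h * t * g) : fmap a t Q g = h⁻¹ * (fmap a t Q x)⁻¹ * h := by
  have hg1 := struct_ne hS hx h1 hh hg e
  refine fmap_eq hS hg hg1 (conj_mem' hS hh.1 (inv_mem (fmap_spec hS hx h1).1)) ?_
  have e' := congrArg (fun y : G => y • t • a) e
  simp only [mul_smul] at e'
  rw [tt_smul hS, show x • a = a from hS.le hx] at e'
  rw [mul_smul, mul_smul, fix_o hS hh]
  rw [eq_comm, eq_inv_smul_iff, eq_inv_smul_iff]
  exact e'.symm

end CfsgLib.RankOne.UnitaryUnique
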